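import Groth.Agent.Sga3B.Hens.FormDef
import Groth.Agent.Books.AffBridge2

/-!
# Cocycles of bialgebra automorphisms and forms
-/

set_option autoImplicit false

universe u

open scoped TensorProduct

namespace Groth.Agent.Sga3B.Hens.CocForm

open GalDesc CocDefs FormDef CocLift

variable {A A' C : Type u} [CommRing A] [CommRing A'] [Algebra A A'] [CommRing C] [HopfAlgebra A C]
  {Γ : Type u} [Group Γ] [Fintype Γ] (g : GalData Γ A A')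
  (B : Type u) [CommRing B] [Algebra A B]

lemma antipode_sM (γ : Γ) (z : (B ⊗[A] A') ⊗[A] C) :
    HopfAlgebra.antipode (B ⊗[A] A') (sM C g B γ z) =
      sM C g B γ (HopfAlgebra.antipode (B ⊗[A] A') z) := by
  induction z using TensorProduct.induction_on with
  | zero => simp
  | tmul r c =>
    rw [sM_apply, sM_apply, Algebra.TensorProduct.map_tmul, TensorProduct.antipode_def,
      TensorProduct.AlgebraTensorModule.map_tmul, TensorProduct.AlgebraTensorModule.map_tmul,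
      Algebra.TensorProduct.map_tmul, CommSemiring.antipode_eq_id]
    rfl
  | add x y hx hy => simp only [map_add, hx, hy]

section form

variable (α : Γ → ((B ⊗[A] A') ⊗[A] C ≃ₐc[B ⊗[A] A'] (B ⊗[A] A') ⊗[A] C))

lemma coc_one (h : IsCoc g B α) (z : (B ⊗[A] A') ⊗[A] C) : α 1 (sM C g B 1 z) = z := by
  have h1 := h 1 1 z
  rw [mul_one] at h1
  exact (sM C g B 1).injective ((α 1).injective h1)

omit [Group Γ] [Fintype Γ] in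
lemma alpha_algebraMap (γ : Γ) (r : B ⊗[A] A') :
    α γ (algebraMap (B ⊗[A] A') ((B ⊗[A] A') ⊗[A] C) r) =
      algebraMap (B ⊗[A] A') ((B ⊗[A] A') ⊗[A] C) r :=
  (α γ : (B ⊗[A] A') ⊗[A] C ≃ₐ[B ⊗[A] A'] (B ⊗[A] A') ⊗[A] C).commutes r

/-- the twisted semilinear action -/
noncomputable def tw (γ : Γ) : (B ⊗[A] A') ⊗[A] C →ₐ[B] (B ⊗[A] A') ⊗[A] C where
  __ := ((α γ : (B ⊗[A] A') ⊗[A] C ≃ₐ[B ⊗[A] A'] (B ⊗[A] A') ⊗[A] C) :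
    (B ⊗[A] A') ⊗[A] C →+* (B ⊗[A] A') ⊗[A] C).comp
      (sM C g B γ : (B ⊗[A] A') ⊗[A] C →+* (B ⊗[A] A') ⊗[A] C)
  commutes' b := by
    change α γ (sM C g B γ _) = _
    rw [IsScalarTower.algebraMap_apply B (B ⊗[A] A') ((B ⊗[A] A') ⊗[A] C), sM_algebraMap,
      alpha_algebraMap]
    congr 1
    exact ((g.baseChange B).σ γ).commutes b

lemma tw_apply (γ : Γ) (z : (B ⊗[A] A') ⊗[A] C) : tw g B α γ z = α γ (sM C g B γ z) := rfl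

lemma tw_alg (γ : Γ) (r : B ⊗[A] A') :
    tw g B α γ (algebraMap (B ⊗[A] A') ((B ⊗[A] A') ⊗[A] C) r) =
      algebraMap (B ⊗[A] A') ((B ⊗[A] A') ⊗[A] C) ((g.baseChange B).σ γ r) := by
  rw [tw_apply, sM_algebraMap, alpha_algebraMap]
  rfl

lemma tw_comul (γ : Γ) (m : (B ⊗[A] A') ⊗[A] C) :
    Coalgebra.comul (R := B ⊗[A] A') (tw g B α γ m) =
    Algebra.TensorProduct.mapRingHom
      (((g.baseChange B).σ γ : B ⊗[A] A' →ₐ[B] B ⊗[A] A') : B ⊗[A] A' →+* B ⊗[A] A')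
      (tw g B α γ : (B ⊗[A] A') ⊗[A] C →+* (B ⊗[A] A') ⊗[A] C)
      (tw g B α γ : (B ⊗[A] A') ⊗[A] C →+* (B ⊗[A] A') ⊗[A] C)
      (RingHom.ext fun r => tw_alg g B α γ r) (RingHom.ext fun r => tw_alg g B α γ r)
      (Coalgebra.comul (R := B ⊗[A] A') m) := by
  rw [tw_apply, ← CoalgHomClass.map_comp_comul_apply (α γ), comul_sM]
  generalize Coalgebra.comul (R := B ⊗[A] A') m = w
  induction w using TensorProduct.induction_on with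
  | zero => simp
  | tmul x y =>
    rw [sM2_tmul]
    refine Eq.trans ?_ (Algebra.TensorProduct.mapRingHom_tmul (HS := RingHom.ext fun r => tw_alg g B α γ r)
      (HT := RingHom.ext fun r => tw_alg g B α γ r) ..).symm
    rfl
  | add x y hx hy => rw [map_add, map_add, hx, hy, map_add]

lemma tw_counit (γ : Γ) (m : (B ⊗[A] A') ⊗[A] C) :
    Coalgebra.counit (R := B ⊗[A] A') (tw g B α γ m) =
      (g.baseChange B).σ γ (Coalgebra.counit (R := B ⊗[A] A') m) := by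
  rw [tw_apply, CoalgHomClass.counit_comp_apply, counit_sM]
  rfl

lemma tw_antipode (γ : Γ) (m : (B ⊗[A] A') ⊗[A] C) :
    HopfAlgebra.antipode (B ⊗[A] A') (tw g B α γ m) =
      tw g B α γ (HopfAlgebra.antipode (B ⊗[A] A') m) := by
  rw [tw_apply, tw_apply, ← antipode_sM]
  exact Books.AffBridge2.antipode_bialgHom_apply
    (α γ : (B ⊗[A] A') ⊗[A] C →ₐc[B ⊗[A] A'] (B ⊗[A] A') ⊗[A] C) _

/-- the twisted action as a Hopf action -/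
noncomputable def hopfAct (h : IsCoc g B α) :
    GalData.HopfAct (g.baseChange B) ((B ⊗[A] A') ⊗[A] C) where
  v := tw g B α
  v_one m := coc_one g B α h m
  v_mul γ δ m := h γ δ m
  v_alg := tw_alg g B α
  v_comul := tw_comul g B α
  v_counit := tw_counit g B α
  v_antipode := tw_antipode g B α

end form

/-- Every cocycle has a form. -/
theorem exists_form_of_cocycle
    (α : Γ → ((B ⊗[A] A') ⊗[A] C ≃ₐc[B ⊗[A] A'] (B ⊗[A] A') ⊗[A] C)) (h : IsCoc g B α) :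
    ∃ (D : Type u) (_ : CommRing D) (_ : HopfAlgebra B D)
      (ψ : (B ⊗[A] A') ⊗[B] D ≃ₐc[B ⊗[A] A'] (B ⊗[A] A') ⊗[A] C), IsForm g B α ψ := by
  obtain ⟨D, i1, i2, e, he⟩ := (hopfAct g B α h).exists_descent
  exact ⟨D, i1, i2, e, he⟩

section coc

variable {D : Type u} [CommRing D] [HopfAlgebra B D]
  (ψ : (B ⊗[A] A') ⊗[B] D ≃ₐc[B ⊗[A] A'] (B ⊗[A] A') ⊗[A] C)

variable (D) in
/-- the semilinear action on `(B ⊗ A') ⊗ D` -/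
noncomputable def tau (γ : Γ) : (B ⊗[A] A') ⊗[B] D ≃ₐ[B] (B ⊗[A] A') ⊗[B] D :=
  Algebra.TensorProduct.congr ((g.baseChange B).σ γ) (AlgEquiv.refl : D ≃ₐ[B] D)

omit [CommRing D] [HopfAlgebra B D] in
lemma tau_tmul [CommRing D] [HopfAlgebra B D] (γ : Γ) (r : B ⊗[A] A') (d : D) :
    tau g B D γ (r ⊗ₜ d) = sR g B γ r ⊗ₜ d := rfl

lemma tau_tau (γ δ : Γ) (x : (B ⊗[A] A') ⊗[B] D) :
    tau g B D γ (tau g B D δ x) = tau g B D (γ * δ) x := by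
  induction x using TensorProduct.induction_on with
  | zero => simp
  | tmul r d => rw [tau_tmul, tau_tmul, tau_tmul, sR_sR]
  | add x y hx hy => simp only [map_add, hx, hy]

/-- the cocycle attached to a form, as a family of ring automorphisms -/
noncomputable def kap (γ : Γ) : (B ⊗[A] A') ⊗[A] C ≃+* (B ⊗[A] A') ⊗[A] C :=
  (((sM C g B γ).symm.trans
    ((ψ : (B ⊗[A] A') ⊗[B] D ≃ₐ[B ⊗[A] A'] (B ⊗[A] A') ⊗[A] C).symm.toRingEquiv)).trans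
      (tau g B D γ).toRingEquiv).trans
        (ψ : (B ⊗[A] A') ⊗[B] D ≃ₐ[B ⊗[A] A'] (B ⊗[A] A') ⊗[A] C).toRingEquiv

lemma kap_sM (γ : Γ) (x : (B ⊗[A] A') ⊗[B] D) :
    kap g B ψ γ (sM C g B γ (ψ x)) = ψ (tau g B D γ x) := by
  have h1 : (ψ : (B ⊗[A] A') ⊗[B] D ≃ₐ[B ⊗[A] A'] (B ⊗[A] A') ⊗[A] C).symm
      ((sM C g B γ).symm (sM C g B γ (ψ x))) = x := by
    rw [RingEquiv.symm_apply_apply]
    exact (ψ : (B ⊗[A] A') ⊗[B] D ≃ₐ[B ⊗[A] A'] (B ⊗[A] A') ⊗[A] C).symm_apply_apply x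
  exact congrArg (fun y => ψ (tau g B D γ y)) h1

lemma exists_rep (γ : Γ) (z : (B ⊗[A] A') ⊗[A] C) : ∃ x, sM C g B γ (ψ x) = z := by
  obtain ⟨y, hy⟩ := (sM C g B γ).surjective z
  obtain ⟨x, hx⟩ := (ψ : (B ⊗[A] A') ⊗[B] D ≃ₐ[B ⊗[A] A'] (B ⊗[A] A') ⊗[A] C).surjective y
  exact ⟨x, (congrArg (sM C g B γ) hx).trans hy⟩

lemma kap_commutes (γ : Γ) (r : B ⊗[A] A') :
    kap g B ψ γ (algebraMap (B ⊗[A] A') ((B ⊗[A] A') ⊗[A] C) r) =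
      algebraMap (B ⊗[A] A') ((B ⊗[A] A') ⊗[A] C) r := by
  have h1 : ∀ s : B ⊗[A] A', ψ (s ⊗ₜ (1 : D)) =
      algebraMap (B ⊗[A] A') ((B ⊗[A] A') ⊗[A] C) s := fun s =>
    (ψ : (B ⊗[A] A') ⊗[B] D ≃ₐ[B ⊗[A] A'] (B ⊗[A] A') ⊗[A] C).commutes s
  have h2 : sM C g B γ (ψ (sR g B γ⁻¹ r ⊗ₜ (1 : D))) =
      algebraMap (B ⊗[A] A') ((B ⊗[A] A') ⊗[A] C) r := by
    rw [h1, sM_algebraMap, sR_sR, mul_inv_cancel, sR_one]
  conv_lhs => rw [← h2]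
  rw [kap_sM, tau_tmul, sR_sR, mul_inv_cancel, sR_one, h1]

/-- the cocycle as algebra equivalences -/
noncomputable def kapAlg (γ : Γ) : (B ⊗[A] A') ⊗[A] C ≃ₐ[B ⊗[A] A'] (B ⊗[A] A') ⊗[A] C :=
  AlgEquiv.ofRingEquiv (f := kap g B ψ γ) (kap_commutes g B ψ γ)

lemma kapAlg_sM (γ : Γ) (x : (B ⊗[A] A') ⊗[B] D) :
    kapAlg g B ψ γ (sM C g B γ (ψ x)) = ψ (tau g B D γ x) := kap_sM g B ψ γ x

lemma kapAlg_sM' (γ : Γ) (d : D) :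
    kapAlg g B ψ γ (sM C g B γ (ψ (1 ⊗ₜ d))) = ψ (1 ⊗ₜ d) := by
  rw [kapAlg_sM, tau_tmul, map_one]

lemma sM_psi_tmul (γ : Γ) (r : B ⊗[A] A') (d : D) :
    sM C g B γ (ψ (r ⊗ₜ d)) = sR g B γ r • sM C g B γ (ψ (1 ⊗ₜ d)) := by
  have h1 : r ⊗ₜ[B] d = r • ((1 : B ⊗[A] A') ⊗ₜ[B] d) := by
    rw [TensorProduct.smul_tmul', smul_eq_mul, mul_one]
  rw [h1, ← sM_smul]
  congr 1
  exact (ψ : (B ⊗[A] A') ⊗[B] D ≃ₐ[B ⊗[A] A'] (B ⊗[A] A') ⊗[A] C).toLinearMap.map_smul _ _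

lemma ext_sM {N : Type*} [AddCommGroup N] [Module (B ⊗[A] A') N] (γ : Γ)
    (f f' : (B ⊗[A] A') ⊗[A] C →ₗ[B ⊗[A] A'] N)
    (h : ∀ d : D, f (sM C g B γ (ψ (1 ⊗ₜ d))) = f' (sM C g B γ (ψ (1 ⊗ₜ d)))) : f = f' := by
  refine LinearMap.ext fun z => ?_
  obtain ⟨x, rfl⟩ := exists_rep g B ψ γ z
  induction x using TensorProduct.induction_on with
  | zero => rw [map_zero, map_zero, map_zero, map_zero]
  | tmul r d => rw [sM_psi_tmul, map_smul, map_smul, h]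
  | add x y hx hy => rw [map_add, map_add, map_add, map_add, hx, hy]

lemma kap_counit (γ : Γ) :
    (Bialgebra.counitAlgHom (B ⊗[A] A') ((B ⊗[A] A') ⊗[A] C)).comp
      (kapAlg g B ψ γ : (B ⊗[A] A') ⊗[A] C →ₐ[B ⊗[A] A'] (B ⊗[A] A') ⊗[A] C) =
      Bialgebra.counitAlgHom (B ⊗[A] A') ((B ⊗[A] A') ⊗[A] C) := by
  apply AlgHom.toLinearMap_injective
  refine ext_sM g B ψ γ _ _ fun d => ?_
  change Coalgebra.counit (R := B ⊗[A] A') (kapAlg g B ψ γ (sM C g B γ (ψ (1 ⊗ₜ d)))) =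
    Coalgebra.counit (R := B ⊗[A] A') (sM C g B γ (ψ (1 ⊗ₜ d)))
  rw [kapAlg_sM', counit_sM]
  have h1 := GalData.counit_res
    (ψ : (B ⊗[A] A') ⊗[B] D →ₐc[B ⊗[A] A'] (B ⊗[A] A') ⊗[A] C) d
  have h2 : Coalgebra.counit (R := B ⊗[A] A') (ψ (1 ⊗ₜ d)) =
    algebraMap B (B ⊗[A] A') (Coalgebra.counit (R := B) d) := h1
  rw [h2]
  exact (((g.baseChange B).σ γ).commutes _).symm

lemma kap_comul (γ : Γ) :
    (Algebra.TensorProduct.map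
      (kapAlg g B ψ γ : (B ⊗[A] A') ⊗[A] C →ₐ[B ⊗[A] A'] (B ⊗[A] A') ⊗[A] C)
      (kapAlg g B ψ γ : (B ⊗[A] A') ⊗[A] C →ₐ[B ⊗[A] A'] (B ⊗[A] A') ⊗[A] C)).comp
        (Bialgebra.comulAlgHom (B ⊗[A] A') ((B ⊗[A] A') ⊗[A] C)) =
      (Bialgebra.comulAlgHom (B ⊗[A] A') ((B ⊗[A] A') ⊗[A] C)).comp
        (kapAlg g B ψ γ : (B ⊗[A] A') ⊗[A] C →ₐ[B ⊗[A] A'] (B ⊗[A] A') ⊗[A] C) := by
  apply AlgHom.toLinearMap_injective
  refine ext_sM (N := ((B ⊗[A] A') ⊗[A] C) ⊗[B ⊗[A] A'] ((B ⊗[A] A') ⊗[A] C))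
    g B ψ γ _ _ fun d => ?_
  change Algebra.TensorProduct.map
      (kapAlg g B ψ γ : (B ⊗[A] A') ⊗[A] C →ₐ[B ⊗[A] A'] (B ⊗[A] A') ⊗[A] C)
      (kapAlg g B ψ γ : (B ⊗[A] A') ⊗[A] C →ₐ[B ⊗[A] A'] (B ⊗[A] A') ⊗[A] C)
      (Coalgebra.comul (R := B ⊗[A] A') (sM C g B γ (ψ (1 ⊗ₜ d)))) =
    Coalgebra.comul (R := B ⊗[A] A') (kapAlg g B ψ γ (sM C g B γ (ψ (1 ⊗ₜ d))))
  rw [kapAlg_sM', comul_sM]
  have h1 := GalData.comul_res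
    (ψ : (B ⊗[A] A') ⊗[B] D →ₐc[B ⊗[A] A'] (B ⊗[A] A') ⊗[A] C) d
  refine (congrArg (fun t => Algebra.TensorProduct.map
      (kapAlg g B ψ γ : (B ⊗[A] A') ⊗[A] C →ₐ[B ⊗[A] A'] (B ⊗[A] A') ⊗[A] C)
      (kapAlg g B ψ γ : (B ⊗[A] A') ⊗[A] C →ₐ[B ⊗[A] A'] (B ⊗[A] A') ⊗[A] C)
      (sM2 g B γ t)) h1).trans (Eq.trans ?_ h1.symm)
  generalize Coalgebra.comul (R := B) d = w
  induction w using TensorProduct.induction_on with
  | zero => simp only [map_zero]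
  | tmul a c =>
    rw [Groth.Agent.Sga3A.HopfForm.m2_tmul, sM2_tmul, Algebra.TensorProduct.map_tmul]
    exact congrArg₂ _ (kapAlg_sM' g B ψ γ a) (kapAlg_sM' g B ψ γ c)
  | add x y hx hy => rw [map_add, map_add, map_add, hx, hy]

/-- the cocycle attached to a form. -/
noncomputable def cocOf (γ : Γ) : (B ⊗[A] A') ⊗[A] C ≃ₐc[B ⊗[A] A'] (B ⊗[A] A') ⊗[A] C :=
  BialgEquiv.ofAlgEquiv (kapAlg g B ψ γ) (kap_counit g B ψ γ) (kap_comul g B ψ γ)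

lemma cocOf_sM (γ : Γ) (x : (B ⊗[A] A') ⊗[B] D) :
    cocOf g B ψ γ (sM C g B γ (ψ x)) = ψ (tau g B D γ x) := kap_sM g B ψ γ x

end coc

/-- Every form comes from a cocycle. -/
theorem exists_cocycle_of_form {D : Type u} [CommRing D] [HopfAlgebra B D]
    (ψ : (B ⊗[A] A') ⊗[B] D ≃ₐc[B ⊗[A] A'] (B ⊗[A] A') ⊗[A] C) :
    ∃ α : Γ → ((B ⊗[A] A') ⊗[A] C ≃ₐc[B ⊗[A] A'] (B ⊗[A] A') ⊗[A] C),
      IsCoc g B α ∧ IsForm g B α ψ := by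
  refine ⟨cocOf g B ψ, fun γ δ z => ?_, fun γ d => kapAlg_sM' g B ψ γ d⟩
  obtain ⟨x, hx⟩ := (ψ : (B ⊗[A] A') ⊗[B] D ≃ₐ[B ⊗[A] A'] (B ⊗[A] A') ⊗[A] C).surjective z
  have hx' : ψ x = z := hx
  rw [← hx', cocOf_sM, cocOf_sM, cocOf_sM, tau_tau]

end Groth.Agent.Sga3B.Hens.CocForm
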