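import Mathlib.RingTheory.FinitePresentation
import Mathlib.RingTheory.TensorProduct.Free
import Mathlib.RingTheory.TensorProduct.Quotient
import Mathlib.LinearAlgebra.FreeModule.Finite.Basic

/-!
# Weil restriction of finitely presented algebras along a finite free algebra
-/

set_option autoImplicit false

universe u

open TensorProduct

namespace Groth.Agent.Sga3B.Hens.WeilRes

section coord

variable {A A' : Type u} [CommRing A] [CommRing A'] [Algebra A A'] {κ : Type u} (b : Module.Basis κ A A')

/-- Coordinates with respect to `1 ⊗ b`. -/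
noncomputable abbrev bas (B : Type u) [CommRing B] [Algebra A B] : Module.Basis κ B (B ⊗[A] A') :=
  Algebra.TensorProduct.basis B b

theorem repr_map {P B : Type u} [CommRing P] [CommRing B] [Algebra A P] [Algebra A B]
    (φ : P →ₐ[A] B) (z : P ⊗[A] A') (k : κ) :
    (bas b B).repr (Algebra.TensorProduct.map φ (AlgHom.id A A') z) k = φ ((bas b P).repr z k) := by
  induction z using TensorProduct.induction_on with
  | zero => simp
  | add x y hx hy => simp only [map_add, Finsupp.add_apply, hx, hy]
  | tmul x y =>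
    simp only [Algebra.TensorProduct.map_tmul, AlgHom.coe_id, id_eq,
      Algebra.TensorProduct.basis_repr_tmul, Finsupp.smul_apply, Finsupp.mapRange_apply,
      smul_eq_mul, map_mul, AlgHom.commutes]

theorem map_eq_zero_iff {P B : Type u} [CommRing P] [CommRing B] [Algebra A P] [Algebra A B]
    (φ : P →ₐ[A] B) (z : P ⊗[A] A') :
    Algebra.TensorProduct.map φ (AlgHom.id A A') z = 0 ↔ ∀ k, φ ((bas b P).repr z k) = 0 := by
  rw [← (bas b B).repr.map_eq_zero_iff, Finsupp.ext_iff]
  simp only [repr_map, Finsupp.zero_apply]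

end coord

theorem exists_algHom_lift {A P Q C : Type*} [CommRing A] [CommRing P] [CommRing Q] [CommRing C]
    [Algebra A P] [Algebra A Q] [Algebra A C] (f : P →ₐ[A] Q) (hf : Function.Surjective f)
    (g : P →ₐ[A] C) (h : ∀ x, f x = 0 → g x = 0) : ∃ l : Q →ₐ[A] C, ∀ x, l (f x) = g x := by
  let l₀ : (P ⧸ RingHom.ker f) →ₐ[A] C := Ideal.Quotient.liftₐ (RingHom.ker f) g
    (fun x hx => h x ((RingHom.mem_ker).mp hx))
  refine ⟨l₀.comp (Ideal.quotientKerAlgEquivOfSurjective hf).symm.toAlgHom, fun x => ?_⟩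
  have h1 : (Ideal.quotientKerAlgEquivOfSurjective hf).symm (f x) =
      Ideal.Quotient.mk (RingHom.ker f) x := by
    rw [AlgEquiv.symm_apply_eq]
    rfl
  show l₀ ((Ideal.quotientKerAlgEquivOfSurjective hf).symm (f x)) = _
  rw [h1]
  rfl

/-- The functor of those `B`-points of `P` which kill a f.g. ideal of `P ⊗ A'` is given by a f.g. ideal. -/
theorem exists_ideal (A A' : Type u) [CommRing A] [CommRing A'] [Algebra A A'] [Module.Finite A A']
    [Module.Free A A'] (P : Type u) [CommRing P] [Algebra A P] (a : Ideal (P ⊗[A] A')) (ha : a.FG) :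
    ∃ b : Ideal P, b.FG ∧ ∀ (B : Type u) [CommRing B] [Algebra A B] (φ : P →ₐ[A] B),
      (∀ z ∈ a, Algebra.TensorProduct.map φ (AlgHom.id A A') z = 0) ↔ ∀ c ∈ b, φ c = 0 := by
  classical
  obtain ⟨S, hS⟩ := ha
  let κ := Module.Free.ChooseBasisIndex A A'
  let bb : Module.Basis κ A A' := Module.Free.chooseBasis A A'
  have : Fintype κ := Module.Free.ChooseBasisIndex.fintype A A'
  let T : Finset P := (S ×ˢ (Finset.univ : Finset κ)).image fun p => (bas bb P).repr p.1 p.2
  refine ⟨Ideal.span (T : Set P), ⟨T, rfl⟩, ?_⟩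
  intro B _ _ φ
  constructor
  · intro h
    have h1 : Ideal.span (T : Set P) ≤ RingHom.ker φ := by
      rw [Ideal.span_le]
      intro c hc
      simp only [T, Finset.coe_image, Set.mem_image, Finset.mem_coe, Finset.mem_product,
        Finset.mem_univ, and_true] at hc
      obtain ⟨⟨z, k⟩, hz, rfl⟩ := hc
      have h2 := h z (hS ▸ Ideal.subset_span hz)
      exact (map_eq_zero_iff bb φ z).mp h2 k
    exact fun c hc => h1 hc
  · intro h
    have h1 : a ≤ RingHom.ker (Algebra.TensorProduct.map φ (AlgHom.id A A')) := by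
      rw [← hS, Submodule.span_le]
      intro z hz
      refine (map_eq_zero_iff bb φ z).mpr fun k => h _ (Ideal.subset_span ?_)
      simp only [T, Finset.coe_image, Set.mem_image, Finset.mem_coe, Finset.mem_product,
        Finset.mem_univ, and_true]
      exact ⟨⟨z, k⟩, hz, rfl⟩
    exact fun z hz => h1 hz

/-- Weil restriction: for `A'` finite free over `A` and finitely many finitely presented `A`-algebras
`E i`, the functor `B ↦ ∏ i, Hom_A (E i, B ⊗ A')` is represented by a finitely presented `A`-algebra. -/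
theorem exists_weil (A A' : Type u) [CommRing A] [CommRing A'] [Algebra A A'] [Module.Finite A A']
    [Module.Free A A'] {ι : Type u} [Finite ι] (E : ι → Type u) [∀ i, CommRing (E i)]
    [∀ i, Algebra A (E i)] [∀ i, Algebra.FinitePresentation A (E i)] :
    ∃ (P : Type u) (_ : CommRing P) (_ : Algebra A P) (_ : Algebra.FinitePresentation A P)
      (π : ∀ i, E i →ₐ[A] P ⊗[A] A'),
      ∀ (B : Type u) [CommRing B] [Algebra A B] (e : ∀ i, E i →ₐ[A] B ⊗[A] A'),
        ∃! φ : P →ₐ[A] B, ∀ i, (Algebra.TensorProduct.map φ (AlgHom.id A A')).comp (π i) = e i := by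
  classical
  have : Fintype ι := Fintype.ofFinite ι
  let κ := Module.Free.ChooseBasisIndex A A'
  let bb : Module.Basis κ A A' := Module.Free.chooseBasis A A'
  have : Fintype κ := Module.Free.ChooseBasisIndex.fintype A A'
  have hE : ∀ i, ∃ (m : ℕ) (f : MvPolynomial (Fin m) A →ₐ[A] E i), Function.Surjective f ∧
      (RingHom.ker f.toRingHom).FG := fun i => (inferInstance : Algebra.FinitePresentation A (E i)).out
  choose m f hf hker using hE
  let R := MvPolynomial (Σ i : ι, Fin (m i) × κ) A
  let ψ : ∀ i, MvPolynomial (Fin (m i)) A →ₐ[A] R ⊗[A] A' := fun i =>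
    MvPolynomial.aeval fun j => ∑ k, (MvPolynomial.X ⟨i, j, k⟩ : R) ⊗ₜ[A] bb k
  -- the ideal of relations
  let a : Ideal (R ⊗[A] A') := ⨆ i, (RingHom.ker (f i).toRingHom).map (ψ i).toRingHom
  have ha : a.FG := Submodule.fg_iSup _ fun i => (hker i).map _
  obtain ⟨b, hb, hbu⟩ := exists_ideal A A' R a ha
  have hcoord : ∀ (B : Type u) [CommRing B] [Algebra A B] (φ : R →ₐ[A] B) (i : ι) (j : Fin (m i)) (k : κ),
      (bas bb B).repr (Algebra.TensorProduct.map φ (AlgHom.id A A') (ψ i (MvPolynomial.X j))) k =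
        φ (MvPolynomial.X ⟨i, j, k⟩) := by
    intro B _ _ φ i j k
    rw [repr_map]
    congr 1
    simp only [ψ, MvPolynomial.aeval_X]
    have h1 : ∀ k' : κ, (MvPolynomial.X ⟨i, j, k'⟩ : R) ⊗ₜ[A] bb k' =
        (MvPolynomial.X ⟨i, j, k'⟩ : R) • (bas bb R) k' := by
      intro k'
      rw [Algebra.TensorProduct.basis_apply, TensorProduct.smul_tmul', smul_eq_mul, mul_one]
    simp only [h1]
    rw [Module.Basis.repr_sum_self]
  let q : R →ₐ[A] R ⧸ b := Ideal.Quotient.mkₐ A b
  have hq : ∀ i, ∀ x ∈ RingHom.ker (f i).toRingHom,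
      (Algebra.TensorProduct.map q (AlgHom.id A A')) (ψ i x) = 0 := by
    intro i x hx
    refine (hbu (R ⧸ b) q).mpr (fun c hc => Ideal.Quotient.eq_zero_iff_mem.mpr hc) _ ?_
    exact (le_iSup (fun i => (RingHom.ker (f i).toRingHom).map (ψ i).toRingHom) i)
      (Ideal.mem_map_of_mem (ψ i).toRingHom hx)
  have hπ' : ∀ i, ∃ l : E i →ₐ[A] (R ⧸ b) ⊗[A] A', ∀ x,
      l (f i x) = Algebra.TensorProduct.map q (AlgHom.id A A') (ψ i x) := fun i =>
    exists_algHom_lift (f i) (hf i) ((Algebra.TensorProduct.map q (AlgHom.id A A')).comp (ψ i))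
      (fun x hx => hq i x hx)
  choose π hπ using hπ'
  refine ⟨R ⧸ b, inferInstance, inferInstance, ?_, π, ?_⟩
  · exact Algebra.FinitePresentation.quotient hb
  intro B _ _ e
  let φ₀ : R →ₐ[A] B := MvPolynomial.aeval fun s => (bas bb B).repr (e s.1 (f s.1 (MvPolynomial.X s.2.1))) s.2.2
  have hφ₀ : ∀ i, (Algebra.TensorProduct.map φ₀ (AlgHom.id A A')).comp (ψ i) = (e i).comp (f i) := by
    intro i
    refine MvPolynomial.algHom_ext fun j => ?_
    apply (bas bb B).repr.injective
    ext k
    rw [AlgHom.comp_apply, hcoord]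
    rw [AlgHom.comp_apply]
    exact MvPolynomial.aeval_X _ _
  have hφb : ∀ c ∈ b, φ₀ c = 0 := by
    refine (hbu B φ₀).mp ?_
    have h1 : a ≤ RingHom.ker (Algebra.TensorProduct.map φ₀ (AlgHom.id A A')) := by
      refine iSup_le fun i => ?_
      rw [Ideal.map_le_iff_le_comap]
      intro x hx
      have h2 := DFunLike.congr_fun (hφ₀ i) x
      rw [AlgHom.comp_apply, AlgHom.comp_apply] at h2
      rw [Ideal.mem_comap, RingHom.mem_ker]
      refine h2.trans ?_
      have h3 : f i x = 0 := hx
      rw [h3, map_zero]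
    exact fun z hz => h1 hz
  let φ : (R ⧸ b) →ₐ[A] B := Ideal.Quotient.liftₐ b φ₀ hφb
  have hφq : φ.comp q = φ₀ := by
    ext s
    rfl
  refine ⟨φ, ?_, ?_⟩
  · intro i
    refine (AlgHom.cancel_right (hf i)).mp ?_
    rw [← hφ₀ i]
    ext1 j
    show Algebra.TensorProduct.map φ (AlgHom.id A A') (π i (f i (MvPolynomial.X j))) = _
    rw [hπ, ← hφq]
    simp only [AlgHom.comp_apply]
    generalize ψ i (MvPolynomial.X j) = z
    induction z using TensorProduct.induction_on with
    | zero => simp
    | add x y hx hy => rw [map_add, map_add, map_add, hx, hy]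
    | tmul x y => simp
  · intro φ' hφ'
    have h1 : φ'.comp q = φ₀ := by
      refine MvPolynomial.algHom_ext fun s => ?_
      obtain ⟨i, j, k⟩ := s
      have h2 := hcoord B (φ'.comp q) i j k
      rw [← h2]
      simp only [φ₀, MvPolynomial.aeval_X]
      congr 2
      rw [← hφ' i, AlgHom.comp_apply, hπ]
      generalize ψ i (MvPolynomial.X j) = z
      induction z using TensorProduct.induction_on with
      | zero => simp
      | add x y hx hy => rw [map_add, map_add, map_add, hx, hy]
      | tmul x y => simp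
    refine AlgHom.ext fun x => ?_
    obtain ⟨x, rfl⟩ := Ideal.Quotient.mkₐ_surjective A b x
    have := DFunLike.congr_fun (h1.trans hφq.symm) x
    exact this

end Groth.Agent.Sga3B.Hens.WeilRes
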