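import Groth.Agent.Sga3B.Hens.CocLift
import Groth.Agent.Sga3B.Hens.WeilRes
import Mathlib.RingTheory.Smooth.Basic

/-!
# The scheme of cocycles is smooth
-/

set_option autoImplicit false

universe u

open CategoryTheory MonoidalCategory CartesianMonoidalCategory AlgebraicGeometry Limits
open scoped TensorProduct

namespace Groth.Agent.Sga3B.Hens.CocScheme

open Groth.Agent.Books.AffBridge GalDesc CocDefs

variable {A A' C : Type u} [CommRing A] [CommRing A'] [Algebra A A'] [CommRing C] [HopfAlgebra A C]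
  {Γ : Type u} [Group Γ] [Fintype Γ] (g : GalData Γ A A')
  {𝒢 : Over (Spec (CommRingCat.of A))}
  (pt : ∀ (R : Type u) [CommRing R] [Algebra A R], (SpecOver A R ⟶ 𝒢) ≃ (R ⊗[A] C ≃ₐc[R] R ⊗[A] C))

/-- product of points -/
noncomputable def prodPt {R : Type u} [CommRing R] [Algebra A R] (x y : SpecOver A R ⟶ 𝒢) :
    SpecOver A R ⟶ 𝒢 := (pt R).symm ((pt R y).trans (pt R x))

/-- twist of a point by `γ`. -/
noncomputable def tw (B : Type u) [CommRing B] [Algebra A B] (γ : Γ)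
    (x : SpecOver A (B ⊗[A] A') ⟶ 𝒢) : SpecOver A (B ⊗[A] A') ⟶ 𝒢 := specMap A (sR g B γ) ≫ x

section nat

variable (hpt : ∀ (R R' : Type u) [CommRing R] [Algebra A R] [CommRing R'] [Algebra A R'] (φ : R →ₐ[A] R')
    (x : SpecOver A R ⟶ 𝒢) (z : R ⊗[A] C), pt R' (specMap A φ ≫ x) (bcM C φ z) = bcM C φ (pt R x z))
include hpt

lemma isBC_pt {R R' : Type u} [CommRing R] [Algebra A R] [CommRing R'] [Algebra A R'] (φ : R →ₐ[A] R')
    (x : SpecOver A R ⟶ 𝒢) : IsBC φ (pt R x) (pt R' (specMap A φ ≫ x)) :=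
  fun z => hpt R R' φ x z

lemma prodPt_comp {R R' : Type u} [CommRing R] [Algebra A R] [CommRing R'] [Algebra A R']
    (φ : R →ₐ[A] R') (x y : SpecOver A R ⟶ 𝒢) :
    prodPt pt (specMap A φ ≫ x) (specMap A φ ≫ y) = specMap A φ ≫ prodPt pt x y := by
  rw [prodPt, Equiv.symm_apply_eq]
  have h1 := isBC_pt pt hpt φ (prodPt pt x y)
  have h2 := (isBC_pt pt hpt φ y).trans (isBC_pt pt hpt φ x)
  rw [prodPt, Equiv.apply_symm_apply] at h1
  exact h2.unique h1

lemma pt_tw {B : Type u} [CommRing B] [Algebra A B] (γ : Γ) (x : SpecOver A (B ⊗[A] A') ⟶ 𝒢)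
    (z : (B ⊗[A] A') ⊗[A] C) : pt _ (tw g B γ x) (sM C g B γ z) = sM C g B γ (pt _ x z) := by
  rw [sM_apply, sM_apply]
  exact hpt _ _ _ x z

lemma isCoc_iff (B : Type u) [CommRing B] [Algebra A B] (x : Γ → (SpecOver A (B ⊗[A] A') ⟶ 𝒢)) :
    IsCoc g B (fun γ => pt _ (x γ)) ↔ ∀ γ δ, prodPt pt (x γ) (tw g B γ (x δ)) = x (γ * δ) := by
  have h1 : ∀ γ δ, (prodPt pt (x γ) (tw g B γ (x δ)) = x (γ * δ) ↔
      ∀ w, pt _ (x γ) (pt _ (tw g B γ (x δ)) w) = pt _ (x (γ * δ)) w) := by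
    intro γ δ
    rw [prodPt, Equiv.symm_apply_eq]
    exact ⟨fun h w => congr($h w), fun h => by ext w; exact h w⟩
  simp only [h1]
  refine forall_congr' fun γ => forall_congr' fun δ => ?_
  constructor
  · intro h w
    have h2 := h ((sM C g B (γ * δ)).symm w)
    rw [← pt_tw g pt hpt, sM_sM, RingEquiv.apply_symm_apply] at h2
    exact h2
  · intro h z
    rw [← pt_tw g pt hpt, sM_sM]
    exact h _

omit hpt in
lemma tw_comp {B B₁ : Type u} [CommRing B] [Algebra A B] [CommRing B₁] [Algebra A B₁]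
    (φ : B →ₐ[A] B₁) (γ : Γ) (x : SpecOver A (B ⊗[A] A') ⟶ 𝒢) :
    tw g B₁ γ (specMap A (bcR A' φ) ≫ x) = specMap A (bcR A' φ) ≫ tw g B γ x := by
  rw [tw, tw, ← Category.assoc, ← Category.assoc, ← specMap_comp, ← specMap_comp]
  congr 2
  exact AlgHom.ext fun z => (bcR_sR g B φ γ z).symm

/-- The ideal of relations. -/
theorem exists_ideal [Module.Finite A A'] [Module.Free A A'] [IsSeparated 𝒢.hom]
    [LocallyOfFiniteType 𝒢.hom] {P : Type u} [CommRing P] [Algebra A P]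
    (x : Γ → (SpecOver A (P ⊗[A] A') ⟶ 𝒢)) :
    ∃ b : Ideal P, b.FG ∧ ∀ (B : Type u) [CommRing B] [Algebra A B] (φ : P →ₐ[A] B),
      IsCoc g B (fun γ => pt _ (specMap A (bcR A' φ) ≫ x γ)) ↔ ∀ c ∈ b, φ c = 0 := by
  choose a ha hau using fun p : Γ × Γ =>
    PtScheme.exists_eqIdeal (prodPt pt (x p.1) (tw g P p.1 (x p.2))) (x (p.1 * p.2))
  choose b hb hbu using fun p : Γ × Γ => WeilRes.exists_ideal A A' P (a p) (ha p)
  refine ⟨⨆ p, b p, Submodule.fg_iSup _ hb, ?_⟩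
  intro B _ _ φ
  rw [isCoc_iff g pt hpt B (fun γ => specMap A (bcR A' φ) ≫ x γ)]
  have h1 : (∀ c ∈ (⨆ p, b p), φ c = 0) ↔ ∀ p, ∀ c ∈ b p, φ c = 0 := by
    have := iSup_le_iff (f := b) (a := RingHom.ker φ)
    simp only [SetLike.le_def, RingHom.mem_ker] at this
    exact ⟨fun h => this.mp fun c hc => h c hc, fun h c hc => this.mpr (fun i x hx => h i x hx) hc⟩
  rw [h1]
  have h2 : ∀ p : Γ × Γ, (prodPt pt (specMap A (bcR A' φ) ≫ x p.1)
      (tw g B p.1 (specMap A (bcR A' φ) ≫ x p.2)) = specMap A (bcR A' φ) ≫ x (p.1 * p.2)) ↔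
        ∀ c ∈ b p, φ c = 0 := by
    intro p
    rw [tw_comp g, prodPt_comp pt hpt, hau p _ (bcR A' φ), ← hbu p]
  exact ⟨fun h p => (h2 p).mp (h p.1 p.2), fun h γ δ => (h2 (γ, δ)).mpr (h (γ, δ))⟩

/-- The scheme of cocycles with values in given charts is smooth. -/
theorem exists_smooth [Module.Finite A A'] [Module.Free A A'] [IsSeparated 𝒢.hom]
    [LocallyOfFiniteType 𝒢.hom] (E : Γ → Type u) [∀ γ, CommRing (E γ)] [∀ γ, Algebra A (E γ)]
    [∀ γ, Algebra.Smooth A (E γ)] (j : ∀ γ, SpecOver A (E γ) ⟶ 𝒢) [∀ γ, IsOpenImmersion (j γ).left] :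
    ∃ (Q : Type u) (_ : CommRing Q) (_ : Algebra A Q) (_ : Algebra.Smooth A Q)
      (ev : ∀ γ, E γ →ₐ[A] Q ⊗[A] A'),
      IsCoc g Q (fun γ => pt _ (specMap A (ev γ) ≫ j γ)) ∧
      ∀ (B : Type u) [CommRing B] [Algebra A B] (e : ∀ γ, E γ →ₐ[A] B ⊗[A] A'),
        IsCoc g B (fun γ => pt _ (specMap A (e γ) ≫ j γ)) →
        ∃ q : Q →ₐ[A] B, ∀ γ, (bcR A' q).comp (ev γ) = e γ := by
  obtain ⟨P, _, _, _, π, hπ⟩ := WeilRes.exists_weil A A' E
  obtain ⟨b, hb, hbu⟩ := exists_ideal g pt hpt (P := P) (fun γ => specMap A (π γ) ≫ j γ)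
  have hcomp : ∀ (B : Type u) [CommRing B] [Algebra A B] (φ : P →ₐ[A] B) (γ : Γ),
      specMap A (bcR A' φ) ≫ specMap A (π γ) ≫ j γ = specMap A ((bcR A' φ).comp (π γ)) ≫ j γ := by
    intro B _ _ φ γ
    rw [specMap_comp, Category.assoc]
  have hbu' : ∀ (B : Type u) [CommRing B] [Algebra A B] (φ : P →ₐ[A] B),
      IsCoc g B (fun γ => pt _ (specMap A ((bcR A' φ).comp (π γ)) ≫ j γ)) ↔ ∀ c ∈ b, φ c = 0 := by
    intro B _ _ φ
    rw [← hbu B φ]
    simp only [hcomp]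
  let mkQ : P →ₐ[A] P ⧸ b := Ideal.Quotient.mkₐ A b
  let ev : ∀ γ, E γ →ₐ[A] (P ⧸ b) ⊗[A] A' := fun γ => (bcR A' mkQ).comp (π γ)
  have hev : IsCoc g (P ⧸ b) (fun γ => pt _ (specMap A (ev γ) ≫ j γ)) :=
    (hbu' _ mkQ).mpr fun c hc => Ideal.Quotient.eq_zero_iff_mem.mpr hc
  have huniv : ∀ (B : Type u) [CommRing B] [Algebra A B] (e : ∀ γ, E γ →ₐ[A] B ⊗[A] A'),
        IsCoc g B (fun γ => pt _ (specMap A (e γ) ≫ j γ)) →
        ∃ q : (P ⧸ b) →ₐ[A] B, ∀ γ, (bcR A' q).comp (ev γ) = e γ := by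
    intro B _ _ e he
    obtain ⟨φ, hφ, -⟩ := hπ B e
    have h1 : ∀ c ∈ b, φ c = 0 := by
      rw [← hbu' B φ]
      have h2 : (fun γ => pt _ (specMap A ((bcR A' φ).comp (π γ)) ≫ j γ)) =
          fun γ => pt _ (specMap A (e γ) ≫ j γ) := by
        funext γ
        rw [← hφ γ]
      rw [h2]
      exact he
    refine ⟨Ideal.Quotient.liftₐ b φ h1, fun γ => ?_⟩
    rw [← hφ γ, ← AlgHom.comp_assoc, ← Algebra.TensorProduct.map_comp]
    rfl
  have huniq : ∀ (B : Type u) [CommRing B] [Algebra A B] (q q' : (P ⧸ b) →ₐ[A] B),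
      (∀ γ, (bcR A' q).comp (ev γ) = (bcR A' q').comp (ev γ)) → q = q' := by
    intro B _ _ q q' h
    obtain ⟨φ, -, hφ'⟩ := hπ B fun γ => (bcR A' q).comp (ev γ)
    have h1 := hφ' (q.comp mkQ) fun γ => by
      change (bcR A' (q.comp mkQ)).comp (π γ) = (bcR A' q).comp ((bcR A' mkQ).comp (π γ))
      rw [← AlgHom.comp_assoc, ← Algebra.TensorProduct.map_comp]
      rfl
    have h2 := hφ' (q'.comp mkQ) fun γ => by
      change (bcR A' (q'.comp mkQ)).comp (π γ) = (bcR A' q).comp (ev γ)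
      rw [h]
      change (bcR A' (q'.comp mkQ)).comp (π γ) = (bcR A' q').comp ((bcR A' mkQ).comp (π γ))
      rw [← AlgHom.comp_assoc, ← Algebra.TensorProduct.map_comp]
      rfl
    have h3 := h1.trans h2.symm
    refine AlgHom.ext fun z => ?_
    obtain ⟨p, rfl⟩ := Ideal.Quotient.mk_surjective z
    exact congr($h3 p)
  have hfp : Algebra.FinitePresentation A (P ⧸ b) := Algebra.FinitePresentation.quotient hb
  have hfs : Algebra.FormallySmooth A (P ⧸ b) := by
    refine Algebra.FormallySmooth.of_comp_surjective fun B _ _ I hI f => ?_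
    let φ : B →ₐ[A] B ⧸ I := Ideal.Quotient.mkₐ A I
    have hφ : Function.Surjective φ := Ideal.Quotient.mk_surjective
    have hφR : Function.Surjective (bcR A' φ) :=
      LinearMap.rTensor_surjective (g := φ.toLinearMap) A' hφ
    have hker : RingHom.ker φ = I := Ideal.mk_ker
    have hkerR : RingHom.ker (bcR A' φ) ^ 2 = ⊥ := by
      have h1 : RingHom.ker (bcR A' φ) =
          (RingHom.ker φ).map (Algebra.TensorProduct.includeLeft : B →ₐ[A] B ⊗[A] A') :=
        Algebra.TensorProduct.rTensor_ker (R := A) (C := A') (f := φ) hφ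
      rw [h1, ← Ideal.map_pow, hker, hI, Ideal.map_bot]
    -- the cocycle over `B / I`
    let e₁ : ∀ γ, E γ →ₐ[A] (B ⧸ I) ⊗[A] A' := fun γ => (bcR A' f).comp (ev γ)
    have he₁ : IsCoc g (B ⧸ I) (fun γ => pt _ (specMap A (e₁ γ) ≫ j γ)) := by
      have h1 := (hbu' (B ⧸ I) (f.comp mkQ)).mpr fun c hc => by
        rw [AlgHom.comp_apply]
        have : mkQ c = 0 := Ideal.Quotient.eq_zero_iff_mem.mpr hc
        rw [this, map_zero]
      have h2 : ∀ γ, (bcR A' (f.comp mkQ)).comp (π γ) = e₁ γ := fun γ => by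
        change _ = (bcR A' f).comp ((bcR A' mkQ).comp (π γ))
        rw [← AlgHom.comp_assoc, ← Algebra.TensorProduct.map_comp]
        rfl
      simp only [h2] at h1
      exact h1
    -- lift the points
    choose e he using fun γ : Γ => (⟨Algebra.FormallySmooth.liftOfSurjective (e₁ γ) (bcR A' φ) hφR
      ⟨2, hkerR⟩, Algebra.FormallySmooth.comp_liftOfSurjective (e₁ γ) (bcR A' φ) hφR ⟨2, hkerR⟩⟩ :
        ∃ e : E γ →ₐ[A] B ⊗[A] A', (bcR A' φ).comp e = e₁ γ)
    obtain ⟨β, hβ, hβc⟩ := CocLift.exists_lift g φ hφ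
      (fun i hi j hj => by
        have : i * j ∈ I ^ 2 := by
          rw [pow_two]
          rw [hker] at hi hj
          exact Ideal.mul_mem_mul hi hj
        rwa [hI, Ideal.mem_bot] at this)
      (fun γ => pt _ (specMap A (e γ) ≫ j γ)) (fun γ => pt _ (specMap A (e₁ γ) ≫ j γ))
      (fun γ => by
        have := isBC_pt pt hpt (bcR A' φ) (specMap A (e γ) ≫ j γ)
        rwa [← Category.assoc, ← specMap_comp, he] at this) he₁
    choose e' he' hee' using fun γ : Γ => PtScheme.exists_lift (j γ) (bcR A' φ)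
      (by
        have h1 : Set.range (PrimeSpectrum.comap (bcR A' φ).toRingHom) =
            PrimeSpectrum.zeroLocus (RingHom.ker (bcR A' φ).toRingHom : Set (B ⊗[A] A')) :=
          _root_.range_comap_of_surjective _ (bcR A' φ).toRingHom hφR
        have h2 : PrimeSpectrum.zeroLocus (RingHom.ker (bcR A' φ).toRingHom : Set (B ⊗[A] A')) =
            Set.univ := by
          refine Set.eq_univ_of_forall fun p z hz => ?_
          have h3 : z ^ 2 = 0 := by
            have h4 : z ^ 2 ∈ RingHom.ker (bcR A' φ) ^ 2 := Ideal.pow_mem_pow hz 2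
            rwa [hkerR, Ideal.mem_bot] at h4
          exact p.2.mem_of_pow_mem 2 (by rw [h3]; exact Submodule.zero_mem _)
        exact Set.range_eq_univ.mp (h1.trans h2))
      ((pt _).symm (β γ)) (e₁ γ) (by
        apply (pt _).injective
        have h1 := isBC_pt pt hpt (bcR A' φ) ((pt _).symm (β γ))
        rw [Equiv.apply_symm_apply] at h1
        exact h1.unique (hβ γ))
    obtain ⟨q, hq⟩ := huniv B e' (by
      have : (fun γ => pt _ (specMap A (e' γ) ≫ j γ)) = β := by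
        funext γ
        rw [he' γ, Equiv.apply_symm_apply]
      rw [this]
      exact hβc)
    refine ⟨q, huniq _ _ _ fun γ => ?_⟩
    have h1 : (bcR A' (φ.comp q)).comp (ev γ) = (bcR A' φ).comp ((bcR A' q).comp (ev γ)) := by
      have h2 : bcR A' (φ.comp q) = (bcR A' φ).comp (bcR A' q) := by
        rw [← Algebra.TensorProduct.map_comp]
        rfl
      rw [h2, AlgHom.comp_assoc]
    exact h1.trans ((congrArg _ (hq γ)).trans (hee' γ))
  exact ⟨P ⧸ b, inferInstance, inferInstance, ⟨hfs, hfp⟩, ev, hev, huniv⟩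

end nat

end Groth.Agent.Sga3B.Hens.CocScheme
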