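import Groth.Agent.Books.AffBridge
import Groth.Agent.Books.AffBridge2
import Groth.Agent.Sga3B.IsoFam

/-!
# Families of automorphisms of an affine group scheme and bialgebra automorphisms (helper825, for S3008)
-/

set_option autoImplicit false

universe u

open CategoryTheory MonoidalCategory CartesianMonoidalCategory MonObj GrpObj AlgebraicGeometry
open TensorProduct WithConv
open Groth.Agent.Books.AffBridge

namespace Groth.Agent.Sga3B.Hens.Dict

section algebra

variable {A C R D : Type u} [CommRing A] [CommRing C] [CommRing R] [CommRing D]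
  [Algebra A R] [Algebra A D] [Algebra R D] [IsScalarTower A R D]

/-- The extension `R ⊗ C → D` of an algebra map `C → D`. -/
noncomputable def ex (R : Type u) [CommRing R] [Algebra A R] [Algebra R D] [IsScalarTower A R D]
    [Algebra A C] (g : C →ₐ[A] D) : R ⊗[A] C →ₐ[R] D :=
  Algebra.TensorProduct.lift (Algebra.ofId R D) g (fun _ _ => Commute.all _ _)

variable (R) in
@[simp] lemma ex_tmul [Algebra A C] (g : C →ₐ[A] D) (r : R) (c : C) :
    ex R g (r ⊗ₜ c) = algebraMap R D r * g c := by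
  simp [ex]

/-- restriction along `C → R ⊗ C`. -/
noncomputable def res [Algebra A C] (f : R ⊗[A] C →ₐ[R] D) : C →ₐ[A] D :=
  (f.restrictScalars A).comp Algebra.TensorProduct.includeRight

@[simp] lemma res_apply [Algebra A C] (f : R ⊗[A] C →ₐ[R] D) (c : C) : res f c = f (1 ⊗ₜ c) := rfl

@[simp] lemma res_ex [Algebra A C] (g : C →ₐ[A] D) : res (ex R g) = g := by
  ext c; simp

@[simp] lemma ex_res [Algebra A C] (f : R ⊗[A] C →ₐ[R] D) : ex R (res f) = f := by
  ext c; simp

variable [Bialgebra A C]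

/-- restriction along `C → R ⊗ C` is compatible with convolution. -/
lemma res_conv (f g : WithConv (R ⊗[A] C →ₐ[R] D)) :
    res (f * g).ofConv = (toConv (res f.ofConv) * toConv (res g.ofConv)).ofConv := by
  ext c
  let r := Coalgebra.Repr.arbitrary A c
  rw [res_apply]
  change (f * g) (1 ⊗ₜ c) = (toConv (res f.ofConv) * toConv (res g.ofConv)) c
  rw [AlgHom.convMul_apply, AlgHom.convMul_apply]
  have h1 : Coalgebra.comul (R := R) ((1 : R) ⊗ₜ[A] c) =
      ∑ i ∈ r.index, ((1 : R) ⊗ₜ[A] r.left i) ⊗ₜ[R] ((1 : R) ⊗ₜ[A] r.right i) := by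
    simp [← r.eq, TensorProduct.tmul_sum]
  rw [h1, ← r.eq]
  simp

lemma ex_conv (f g : WithConv (C →ₐ[A] D)) :
    ex R (f * g).ofConv = (toConv (ex R f.ofConv) * toConv (ex R g.ofConv)).ofConv := by
  rw [← ex_res (toConv (ex R f.ofConv) * toConv (ex R g.ofConv)).ofConv, res_conv]
  simp

end algebra

section geom

open Limits

variable (A C : Type u) [CommRing A] [CommRing C] [Algebra A C] (R : Type u) [CommRing R] [Algebra A R]

/-- The comparison `Spec (R ⊗ C) ⟶ Spec C × Spec R`. -/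
noncomputable def cmp : SpecOver A (R ⊗[A] C) ⟶ SpecOver A C ⊗ SpecOver A R :=
  lift (specMap A (Algebra.TensorProduct.includeRight : C →ₐ[A] R ⊗[A] C))
    (specMap A (Algebra.TensorProduct.includeLeft : R →ₐ[A] R ⊗[A] C))

instance isIso_cmp : IsIso (cmp A C R) := by
  have hp : IsPullback
      (Spec.map (CommRingCat.ofHom (Algebra.TensorProduct.includeRight : C →ₐ[A] R ⊗[A] C).toRingHom))
      (Spec.map (CommRingCat.ofHom (Algebra.TensorProduct.includeLeft : R →ₐ[A] R ⊗[A] C).toRingHom))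
      (SpecOver A C).hom (SpecOver A R).hom :=
    isPullback_SpecMap_of_isPushout _ _ _ _ (CommRingCat.isPushout_tensorProduct A R C).flip
  have h : (cmp A C R).left = hp.isoPullback.hom := by
    apply pullback.hom_ext
    · refine Eq.trans ?_ hp.isoPullback_hom_fst.symm
      exact congrArg (fun f => f.left) (lift_fst (specMap A (Algebra.TensorProduct.includeRight : C →ₐ[A] R ⊗[A] C))
        (specMap A (Algebra.TensorProduct.includeLeft : R →ₐ[A] R ⊗[A] C)))
    · refine Eq.trans ?_ hp.isoPullback_hom_snd.symm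
      exact congrArg (fun f => f.left) (lift_snd (specMap A (Algebra.TensorProduct.includeRight : C →ₐ[A] R ⊗[A] C))
        (specMap A (Algebra.TensorProduct.includeLeft : R →ₐ[A] R ⊗[A] C)))
  have : IsIso (cmp A C R).left := by rw [h]; infer_instance
  have : IsIso ((Over.forget _).map (cmp A C R)) := this
  exact isIso_of_reflects_iso _ (Over.forget _)

variable {A C R}

/-- algebra map from `R ⊗ C` -/
noncomputable def li {D : Type u} [CommRing D] [Algebra A D] (h : R →ₐ[A] D) (f : C →ₐ[A] D) :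
    R ⊗[A] C →ₐ[A] D :=
  Algebra.TensorProduct.lift h f (fun _ _ => Commute.all _ _)

lemma lift_specMap {D : Type u} [CommRing D] [Algebra A D] (f : C →ₐ[A] D) (h : R →ₐ[A] D) :
    lift (specMap A f) (specMap A h) = specMap A (li h f) ≫ cmp A C R := by
  apply CartesianMonoidalCategory.hom_ext
  · rw [lift_fst, Category.assoc, cmp, lift_fst, ← specMap_comp]
    congr 1
    ext c
    simp [li]
  · rw [lift_snd, Category.assoc, cmp, lift_snd, ← specMap_comp]
    congr 1
    ext c
    simp [li]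

/-- the algebra map attached to a morphism `Spec C × Spec R ⟶ Spec C'`. -/
noncomputable def uni {C' : Type u} [CommRing C'] [Algebra A C'] (φ : SpecOver A C ⊗ SpecOver A R ⟶ SpecOver A C') :
    C' →ₐ[A] R ⊗[A] C :=
  specPreimage A (cmp A C R ≫ φ)

lemma specMap_uni {C' : Type u} [CommRing C'] [Algebra A C'] (φ : SpecOver A C ⊗ SpecOver A R ⟶ SpecOver A C') :
    specMap A (uni φ) = cmp A C R ≫ φ := specMap_specPreimage _ _

/-- the morphism attached to an algebra map -/
noncomputable def mor {C' : Type u} [CommRing C'] [Algebra A C'] (g : C' →ₐ[A] R ⊗[A] C) :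
    SpecOver A C ⊗ SpecOver A R ⟶ SpecOver A C' :=
  inv (cmp A C R) ≫ specMap A g

@[simp] lemma uni_mor {C' : Type u} [CommRing C'] [Algebra A C'] (g : C' →ₐ[A] R ⊗[A] C) : uni (mor g) = g := by
  simp [uni, mor]

@[simp] lemma mor_uni {C' : Type u} [CommRing C'] [Algebra A C']
    (φ : SpecOver A C ⊗ SpecOver A R ⟶ SpecOver A C') : mor (uni φ) = φ := by
  simp [uni, mor]

lemma lift_comp_eq {C' : Type u} [CommRing C'] [Algebra A C']
    (φ : SpecOver A C ⊗ SpecOver A R ⟶ SpecOver A C')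
    {D : Type u} [CommRing D] [Algebra A D] (f : C →ₐ[A] D) (h : R →ₐ[A] D) :
    lift (specMap A f) (specMap A h) ≫ φ = specMap A ((li h f).comp (uni φ)) := by
  rw [lift_specMap, Category.assoc, ← specMap_uni, specMap_comp]

/-- Base change of the parameter. -/
lemma uni_whisker {C' : Type u} [CommRing C'] [Algebra A C'] {R' : Type u} [CommRing R'] [Algebra A R']
    (φ : SpecOver A C ⊗ SpecOver A R ⟶ SpecOver A C') (α : R →ₐ[A] R') :
    uni ((SpecOver A C ◁ specMap A α) ≫ φ) = (Algebra.TensorProduct.map α (AlgHom.id A C)).comp (uni φ) := by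
  apply specMap_injective A
  rw [specMap_uni, specMap_comp, specMap_uni, ← Category.assoc, ← Category.assoc]
  congr 1
  have : Algebra.TensorProduct.map α (AlgHom.id A C) =
      li (Algebra.TensorProduct.includeLeft.comp α) Algebra.TensorProduct.includeRight := by
    ext c <;> simp [li]
  rw [this, ← lift_specMap, specMap_comp, cmp, lift_whiskerLeft]

end geom

section bialg

variable {A C R : Type u} [CommRing A] [CommRing C] [CommRing R] [Algebra A R] [HopfAlgebra A C]

/-- the condition on `C → R ⊗ C` to be compatible with convolution. -/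
def IsConv (g : C →ₐ[A] R ⊗[A] C) : Prop :=
  ∀ (D : Type u) [CommRing D] [Algebra A D] (t : R →ₐ[A] D) (f f' : WithConv (C →ₐ[A] D)),
    (li t (f * f').ofConv).comp g =
      (toConv ((li t f.ofConv).comp g) * toConv ((li t f'.ofConv).comp g)).ofConv

lemma res_comp_ex {D : Type u} [CommRing D] [Algebra A D] [Algebra R D] [IsScalarTower A R D]
    (g : C →ₐ[A] R ⊗[A] C) (f : R ⊗[A] C →ₐ[R] D) :
    res (f.comp (ex R g)) = (li (IsScalarTower.toAlgHom A R D) (res f)).comp g := by
  ext c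
  have : (li (IsScalarTower.toAlgHom A R D) (res f)) = f.restrictScalars A := by
    ext x
    · simpa [li] using (f.commutes x).symm
    · simp [li]
  rw [this]
  simp [ex, ← Algebra.TensorProduct.one_def]

lemma IsConv.comp_ex {g : C →ₐ[A] R ⊗[A] C} (hg : IsConv g) {D : Type u} [CommRing D] [Algebra A D]
    [Algebra R D] [IsScalarTower A R D] (f f' : WithConv (R ⊗[A] C →ₐ[R] D)) :
    (f * f').ofConv.comp (ex R g) =
      (toConv (f.ofConv.comp (ex R g)) * toConv (f'.ofConv.comp (ex R g))).ofConv := by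
  rw [← ex_res ((f * f').ofConv.comp (ex R g)), res_comp_ex, res_conv, hg, ← res_comp_ex,
    ← res_comp_ex]
  rw [← ex_res (toConv (f.ofConv.comp (ex R g)) * toConv (f'.ofConv.comp (ex R g))).ofConv, res_conv]

/-- The algebra map of the convolution of the two inclusions is the comultiplication. -/
lemma comulAlgHom_eq (R H : Type u) [CommRing R] [CommRing H] [Bialgebra R H] :
    (toConv (Algebra.TensorProduct.includeLeft : H →ₐ[R] H ⊗[R] H) *
      toConv (Algebra.TensorProduct.includeRight : H →ₐ[R] H ⊗[R] H)).ofConv =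
    Bialgebra.comulAlgHom R H := by
  have h : (Algebra.TensorProduct.lift (Algebra.TensorProduct.includeLeft : H →ₐ[R] H ⊗[R] H)
      (Algebra.TensorProduct.includeRight : H →ₐ[R] H ⊗[R] H) (fun _ _ => Commute.all _ _)) =
      AlgHom.id R (H ⊗[R] H) := by
    ext x <;> simp
  ext x
  change (toConv (Algebra.TensorProduct.includeLeft : H →ₐ[R] H ⊗[R] H) *
      toConv (Algebra.TensorProduct.includeRight : H →ₐ[R] H ⊗[R] H)) x = _
  rw [AlgHom.convMul_apply, ofConv_toConv, ofConv_toConv, h]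
  rfl

lemma map_comul_eq {R H : Type u} [CommRing R] [CommRing H] [Bialgebra R H] (F : H →ₐ[R] H) :
    (Algebra.TensorProduct.map F F).comp (Bialgebra.comulAlgHom R H) =
      (toConv ((Algebra.TensorProduct.includeLeft : H →ₐ[R] H ⊗[R] H).comp F) *
        toConv ((Algebra.TensorProduct.includeRight : H →ₐ[R] H ⊗[R] H).comp F)).ofConv := by
  have h : (Algebra.TensorProduct.lift ((Algebra.TensorProduct.includeLeft : H →ₐ[R] H ⊗[R] H).comp F)
      ((Algebra.TensorProduct.includeRight : H →ₐ[R] H ⊗[R] H).comp F) (fun _ _ => Commute.all _ _)) =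
      Algebra.TensorProduct.map F F := by
    ext x <;> simp
  ext x
  change _ = (toConv ((Algebra.TensorProduct.includeLeft : H →ₐ[R] H ⊗[R] H).comp F) *
        toConv ((Algebra.TensorProduct.includeRight : H →ₐ[R] H ⊗[R] H).comp F)) x
  rw [AlgHom.convMul_apply, ofConv_toConv, ofConv_toConv, h]
  rfl

lemma IsConv.map_comp_comul {g : C →ₐ[A] R ⊗[A] C} (hg : IsConv g) :
    (Algebra.TensorProduct.map (ex R g) (ex R g)).comp (Bialgebra.comulAlgHom R (R ⊗[A] C)) =
      (Bialgebra.comulAlgHom R (R ⊗[A] C)).comp (ex R g) := by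
  rw [map_comul_eq, ← comulAlgHom_eq, hg.comp_ex]

lemma IsConv.counit_comp {g : C →ₐ[A] R ⊗[A] C} (hg : IsConv g) :
    (Bialgebra.counitAlgHom R (R ⊗[A] C)).comp (ex R g) = Bialgebra.counitAlgHom R (R ⊗[A] C) := by
  have h1 : ((1 : WithConv (R ⊗[A] C →ₐ[R] R))).ofConv = Bialgebra.counitAlgHom R (R ⊗[A] C) := by
    rw [AlgHom.convOne_def]
    ext x
    simp
  have h2 := hg.comp_ex (1 : WithConv (R ⊗[A] C →ₐ[R] R)) 1
  rw [_root_.mul_one] at h2
  have h3 : toConv ((1 : WithConv (R ⊗[A] C →ₐ[R] R)).ofConv.comp (ex R g)) = 1 := by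
    have := congrArg toConv h2
    rw [toConv_ofConv] at this
    exact (mul_eq_left.mp this.symm)
  have h4 := congrArg ofConv h3
  rw [ofConv_toConv, h1] at h4
  exact h4

/-- The bialgebra endomorphism attached to a map compatible with convolution. -/
noncomputable def IsConv.bialgHom {g : C →ₐ[A] R ⊗[A] C} (hg : IsConv g) :
    R ⊗[A] C →ₐc[R] R ⊗[A] C :=
  BialgHom.ofAlgHom (ex R g) hg.counit_comp hg.map_comp_comul

lemma isConv_res (e : R ⊗[A] C →ₐc[R] R ⊗[A] C) : IsConv (res (e : R ⊗[A] C →ₐ[R] R ⊗[A] C)) := by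
  intro D _ _ t f f'
  let : Algebra R D := t.toRingHom.toAlgebra
  have : IsScalarTower A R D := IsScalarTower.of_algebraMap_eq fun a => (t.commutes a).symm
  have ht : t = IsScalarTower.toAlgHom A R D := rfl
  have key : ∀ k : C →ₐ[A] D, (li t k).comp (res (e : R ⊗[A] C →ₐ[R] R ⊗[A] C)) =
      res ((ex R k).comp (e : R ⊗[A] C →ₐ[R] R ⊗[A] C)) := by
    intro k
    have := res_comp_ex (res (e : R ⊗[A] C →ₐ[R] R ⊗[A] C)) (ex R k)
    rw [res_ex, ex_res] at this
    rw [ht, this]
  rw [key, key, key, ex_conv, AlgHom.convMul_comp_bialgHom_distrib, res_conv]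

end bialg

section fam

variable {A C R : Type u} [CommRing A] [CommRing C] [CommRing R] [Algebra A R] [HopfAlgebra A C]

lemma isConv_uni {φ : SpecOver A C ⊗ SpecOver A R ⟶ SpecOver A C}
    (h : AutFam.IsHomFamily (SpecOver A C) (SpecOver A C) φ) : IsConv (uni φ) := by
  intro D _ _ t f f'
  apply specMap_injective A
  have := h (SpecOver A D) (specMap A f.ofConv) (specMap A f'.ofConv) (specMap A t)
  rw [← specMap_mul, lift_comp_eq, lift_comp_eq, lift_comp_eq] at this
  rw [this, specMap_mul]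

lemma isHomFamily_mor {g : C →ₐ[A] R ⊗[A] C} (hg : IsConv g) :
    AutFam.IsHomFamily (SpecOver A C) (SpecOver A C) (mor g) := by
  have key : ∀ (D : Type u) [CommRing D] [Algebra A D] (f f' : C →ₐ[A] D) (t : R →ₐ[A] D),
      lift (specMap A f * specMap A f') (specMap A t) ≫ mor g =
        (lift (specMap A f) (specMap A t) ≫ mor g) * (lift (specMap A f') (specMap A t) ≫ mor g) := by
    intro D _ _ f f' t
    have h1 := specMap_mul (k := A) (toConv f) (toConv f')
    rw [ofConv_toConv, ofConv_toConv] at h1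
    rw [← h1, lift_comp_eq, lift_comp_eq, lift_comp_eq, uni_mor, hg, specMap_mul]
  intro X g₁ g₂ t
  obtain ⟨w, hw⟩ : ∃ w : X ⟶ SpecOver A ((R ⊗[A] C) ⊗[A] C),
      w ≫ cmp A C (R ⊗[A] C) = lift g₂ (lift g₁ t ≫ inv (cmp A C R)) :=
    ⟨lift g₂ (lift g₁ t ≫ inv (cmp A C R)) ≫ inv (cmp A C (R ⊗[A] C)), by simp⟩
  have h2 : w ≫ specMap A (Algebra.TensorProduct.includeRight : C →ₐ[A] (R ⊗[A] C) ⊗[A] C) = g₂ := by
    have := congrArg (· ≫ fst _ _) hw
    simpa [cmp] using this
  have h3 : w ≫ specMap A (Algebra.TensorProduct.includeLeft : R ⊗[A] C →ₐ[A] (R ⊗[A] C) ⊗[A] C) ≫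
      cmp A C R = lift g₁ t := by
    have := congrArg (· ≫ snd _ _) hw
    simp only [Category.assoc, lift_snd] at this
    rw [cmp, lift_snd] at this
    rw [← Category.assoc, this, Category.assoc, IsIso.inv_hom_id, Category.comp_id]
  have h4 : w ≫ specMap A ((Algebra.TensorProduct.includeLeft : R ⊗[A] C →ₐ[A] (R ⊗[A] C) ⊗[A] C).comp
      Algebra.TensorProduct.includeRight) = g₁ := by
    have := congrArg (· ≫ fst _ _) h3
    simpa [cmp, specMap_comp] using this
  have h5 : w ≫ specMap A ((Algebra.TensorProduct.includeLeft : R ⊗[A] C →ₐ[A] (R ⊗[A] C) ⊗[A] C).comp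
      Algebra.TensorProduct.includeLeft) = t := by
    have := congrArg (· ≫ snd _ _) h3
    simpa [cmp, specMap_comp] using this
  rw [← h2, ← h4, ← h5, ← MonObj.comp_mul, ← comp_lift, ← comp_lift, ← comp_lift, Category.assoc, key,
    MonObj.comp_mul, Category.assoc, Category.assoc]

/-- The bialgebra automorphism attached to a family of automorphisms. -/
theorem bijective_ex {φ ψ : SpecOver A C ⊗ SpecOver A R ⟶ SpecOver A C}
    (h2 : ∀ (X : Over (Spec (CommRingCat.of A))) (g : X ⟶ SpecOver A C) (t : X ⟶ SpecOver A R),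
      lift (lift g t ≫ φ) t ≫ ψ = g)
    (c : C) : ex R (uni φ) (uni ψ c) = 1 ⊗ₜ c := by
  have h := h2 (SpecOver A (R ⊗[A] C)) (specMap A Algebra.TensorProduct.includeRight)
    (specMap A Algebra.TensorProduct.includeLeft)
  rw [lift_comp_eq, lift_comp_eq] at h
  have h' := specMap_injective A h
  have h'' := DFunLike.congr_fun h' c
  have e1 : li (Algebra.TensorProduct.includeLeft : R →ₐ[A] R ⊗[A] C)
      (Algebra.TensorProduct.includeRight : C →ₐ[A] R ⊗[A] C) = AlgHom.id A _ := by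
    ext x <;> simp [li]
  rw [e1, AlgHom.id_comp] at h''
  have e2 : (li (Algebra.TensorProduct.includeLeft : R →ₐ[A] R ⊗[A] C) (uni φ)) =
      (ex R (uni φ)).restrictScalars A := by
    ext x
    · simp [li, ex]
    · simp [li, ← Algebra.TensorProduct.one_def]
  rw [e2] at h''
  simpa using h''

lemma ex_comp_ex {g g' : C →ₐ[A] R ⊗[A] C} (h : ∀ c, ex R g (g' c) = 1 ⊗ₜ c) (z : R ⊗[A] C) :
    ex R g (ex R g' z) = z := by
  have : (ex R g).comp (ex R g') = AlgHom.id R _ := by
    ext c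
    simp [h]
  exact DFunLike.congr_fun this z

/-- The bialgebra automorphism attached to a family of automorphisms. -/
noncomputable def autOf (φ : SpecOver A C ⊗ SpecOver A R ⟶ SpecOver A C)
    (h : AutFam.IsIsoFamily (SpecOver A C) (SpecOver A C) φ) : R ⊗[A] C ≃ₐc[R] R ⊗[A] C :=
  BialgEquiv.ofBijective (isConv_uni h.1).bialgHom (by
    obtain ⟨h1, ψ, h2, h3⟩ := h
    refine Function.bijective_iff_has_inverse.mpr ⟨ex R (uni ψ), fun z => ?_, fun z => ?_⟩
    · exact ex_comp_ex (bijective_ex h3) z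
    · exact ex_comp_ex (bijective_ex h2) z)

@[simp] lemma autOf_apply (φ : SpecOver A C ⊗ SpecOver A R ⟶ SpecOver A C)
    (h : AutFam.IsIsoFamily (SpecOver A C) (SpecOver A C) φ) (z : R ⊗[A] C) :
    autOf φ h z = ex R (uni φ) z := rfl

/-- The family attached to a bialgebra automorphism -/
noncomputable def famOf (e : R ⊗[A] C ≃ₐc[R] R ⊗[A] C) :
    SpecOver A C ⊗ SpecOver A R ⟶ SpecOver A C :=
  mor (res ((e : R ⊗[A] C →ₐc[R] R ⊗[A] C) : R ⊗[A] C →ₐ[R] R ⊗[A] C))

lemma famOf_inv (e e' : R ⊗[A] C ≃ₐc[R] R ⊗[A] C) (h : ∀ z, e (e' z) = z)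
    (X : Over (Spec (CommRingCat.of A))) (g : X ⟶ SpecOver A C) (t : X ⟶ SpecOver A R) :
    lift (lift g t ≫ famOf e) t ≫ famOf e' = g := by
  obtain ⟨w, hw⟩ : ∃ w : X ⟶ SpecOver A (R ⊗[A] C), w ≫ cmp A C R = lift g t :=
    ⟨lift g t ≫ inv (cmp A C R), by simp⟩
  have h1 : w ≫ specMap A (Algebra.TensorProduct.includeRight : C →ₐ[A] (R ⊗[A] C)) = g := by
    have := congrArg (· ≫ fst _ _) hw
    simpa [cmp] using this
  have h2 : w ≫ specMap A (Algebra.TensorProduct.includeLeft : R →ₐ[A] (R ⊗[A] C)) = t := by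
    have := congrArg (· ≫ snd _ _) hw
    simpa [cmp] using this
  have e1 : li (Algebra.TensorProduct.includeLeft : R →ₐ[A] R ⊗[A] C)
      (Algebra.TensorProduct.includeRight : C →ₐ[A] R ⊗[A] C) = AlgHom.id A _ := by
    ext x <;> simp [li]
  rw [← h1, ← h2, ← comp_lift, Category.assoc, lift_comp_eq, ← comp_lift, Category.assoc, lift_comp_eq, e1,
    AlgHom.id_comp, famOf, famOf, uni_mor, uni_mor]
  congr 2
  ext c
  have e2 : (li (Algebra.TensorProduct.includeLeft : R →ₐ[A] R ⊗[A] C)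
      (res ((e : R ⊗[A] C →ₐc[R] R ⊗[A] C) : R ⊗[A] C →ₐ[R] R ⊗[A] C))) =
      ((e : R ⊗[A] C →ₐc[R] R ⊗[A] C) : R ⊗[A] C →ₐ[R] R ⊗[A] C).restrictScalars A := by
    ext x
    · have := (((e : R ⊗[A] C →ₐc[R] R ⊗[A] C) : R ⊗[A] C →ₐ[R] R ⊗[A] C).commutes x).symm
      simpa [li] using this
    · simp [li]
  rw [e2]
  exact h _

lemma isIsoFamily_famOf (e : R ⊗[A] C ≃ₐc[R] R ⊗[A] C) :
    AutFam.IsIsoFamily (SpecOver A C) (SpecOver A C) (famOf e) :=
  ⟨isHomFamily_mor (isConv_res _), famOf e.symm, famOf_inv _ _ fun z => e.apply_symm_apply z,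
    famOf_inv _ _ fun z => e.symm_apply_apply z⟩

lemma autOf_famOf (e : R ⊗[A] C ≃ₐc[R] R ⊗[A] C) : autOf (famOf e) (isIsoFamily_famOf e) = e := by
  apply DFunLike.ext
  intro z
  rw [autOf_apply, famOf, uni_mor, ex_res]
  rfl

lemma famOf_autOf (φ : SpecOver A C ⊗ SpecOver A R ⟶ SpecOver A C)
    (h : AutFam.IsIsoFamily (SpecOver A C) (SpecOver A C) φ) : famOf (autOf φ h) = φ := by
  have : res (((autOf φ h : R ⊗[A] C ≃ₐc[R] R ⊗[A] C) : R ⊗[A] C →ₐc[R] R ⊗[A] C) :
      R ⊗[A] C →ₐ[R] R ⊗[A] C) = uni φ := by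
    ext c
    change autOf φ h (1 ⊗ₜ c) = _
    simp [← Algebra.TensorProduct.one_def]
  rw [famOf, this, mor_uni]

end fam

/-- **Points of the representing object of `Aut (Spec C)` and bialgebra automorphisms.** -/
theorem exists_pt (A C : Type u) [CommRing A] [CommRing C] [HopfAlgebra A C]
    (𝒢 : Over (Spec (CommRingCat.of A))) (υ : SpecOver A C ⊗ 𝒢 ⟶ SpecOver A C)
    (h : AutFam.RepresentsIsom (SpecOver A C) (SpecOver A C) 𝒢 υ) :
    ∃ pt : ∀ (R : Type u) [CommRing R] [Algebra A R], (SpecOver A R ⟶ 𝒢) ≃ (R ⊗[A] C ≃ₐc[R] R ⊗[A] C),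
      ∀ (R R' : Type u) [CommRing R] [Algebra A R] [CommRing R'] [Algebra A R'] (φ : R →ₐ[A] R')
        (x : SpecOver A R ⟶ 𝒢) (z : R ⊗[A] C),
        pt R' (specMap A φ ≫ x) (Algebra.TensorProduct.map φ (AlgHom.id A C) z) =
          Algebra.TensorProduct.map φ (AlgHom.id A C) (pt R x z) := by
  refine ⟨fun R _ _ => ⟨fun x => autOf ((SpecOver A C ◁ x) ≫ υ) (IsoFam.isIsoFamily_pull h.1 x),
    fun e => (h.2 _ (famOf e) (isIsoFamily_famOf e)).choose, fun x => ?_, fun e => ?_⟩, ?_⟩
  · refine ((h.2 _ (famOf (autOf ((SpecOver A C ◁ x) ≫ υ) (IsoFam.isIsoFamily_pull h.1 x)))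
      (isIsoFamily_famOf _)).choose_spec.2 x ?_).symm
    exact (famOf_autOf _ _).symm
  · have h1 := (h.2 _ (famOf e) (isIsoFamily_famOf e)).choose_spec.1
    have h2 : ∀ (φ : SpecOver A C ⊗ SpecOver A R ⟶ SpecOver A C) (hφ : AutFam.IsIsoFamily _ _ φ),
        φ = famOf e → autOf φ hφ = e := by
      rintro φ hφ rfl
      exact autOf_famOf e
    exact h2 _ _ h1
  · intro R R' _ _ _ _ φ x z
    change ex R' (uni ((SpecOver A C ◁ (specMap A φ ≫ x)) ≫ υ)) _ =
      Algebra.TensorProduct.map φ (AlgHom.id A C) (ex R (uni ((SpecOver A C ◁ x) ≫ υ)) z)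
    have h1 : (SpecOver A C ◁ (specMap A φ ≫ x)) ≫ υ = (SpecOver A C ◁ specMap A φ) ≫ (SpecOver A C ◁ x) ≫ υ := by
      rw [MonoidalCategory.whiskerLeft_comp, Category.assoc]
    rw [h1, uni_whisker]
    induction z with
    | zero => simp
    | add a b ha hb => simp only [map_add, ha, hb]
    | tmul r c => 
      simp only [Algebra.TensorProduct.map_tmul, ex_tmul, AlgHom.coe_id, id_eq, AlgHom.comp_apply, map_mul]
      congr 1

/-- Isomorphisms of affine group schemes and isomorphisms of Hopf algebras. -/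
theorem nonempty_bialgEquiv (R C C' : Type u) [CommRing R] [CommRing C] [CommRing C']
    [HopfAlgebra R C] [HopfAlgebra R C'] :
    Nonempty (Grp.mk (SpecOver R C) ≅ Grp.mk (SpecOver R C')) ↔ Nonempty (C ≃ₐc[R] C') := by
  constructor
  · rintro ⟨e⟩
    have hm : IsMonHom e.hom.hom.hom := e.hom.hom.isMonHom_hom
    have hm' : IsMonHom e.inv.hom.hom := e.inv.hom.isMonHom_hom
    obtain ⟨φ, hφ⟩ := exists_bialgHom_of_isMonHom R e.hom.hom.hom
    obtain ⟨ψ, hψ⟩ := exists_bialgHom_of_isMonHom R e.inv.hom.hom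
    have h1 : e.hom.hom.hom ≫ e.inv.hom.hom = 𝟙 _ := congrArg (fun k => k.hom.hom) e.hom_inv_id
    have h2 : e.inv.hom.hom ≫ e.hom.hom.hom = 𝟙 _ := congrArg (fun k => k.hom.hom) e.inv_hom_id
    rw [← hφ, ← hψ, ← specMap_comp] at h1
    rw [← hφ, ← hψ, ← specMap_comp] at h2
    have h3 : (φ : C' →ₐ[R] C).comp (ψ : C →ₐ[R] C') = AlgHom.id R C := specMap_injective R (by
      rw [h1, specMap_id])
    have h4 : (ψ : C →ₐ[R] C').comp (φ : C' →ₐ[R] C) = AlgHom.id R C' := specMap_injective R (by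
      rw [h2, specMap_id])
    refine ⟨BialgEquiv.ofBijective ψ (Function.bijective_iff_has_inverse.mpr ⟨φ, fun z => ?_, fun z => ?_⟩)⟩
    · exact DFunLike.congr_fun h3 z
    · exact DFunLike.congr_fun h4 z
  · rintro ⟨e⟩
    have h1 := isMonHom_specMap R (e : C →ₐc[R] C')
    let E : SpecOver R C' ≅ SpecOver R C := ⟨specMap R ((e : C →ₐc[R] C') : C →ₐ[R] C'),
      specMap R ((e.symm : C' →ₐc[R] C) : C' →ₐ[R] C), by
        rw [← specMap_comp, ← specMap_id]
        congr 1
        ext x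
        exact e.apply_symm_apply x, by
        rw [← specMap_comp, ← specMap_id]
        congr 1
        ext x
        exact e.symm_apply_apply x⟩
    have : IsMonHom E.hom := h1
    exact ⟨(Grp.mkIso' E).symm⟩

open Limits in
theorem bc_specOver (A C R : Type u) [CommRing A] [CommRing C] [HopfAlgebra A C] [CommRing R] [Algebra A R] :
    Nonempty (Grp.mk (Red.bc (Spec.map (CommRingCat.ofHom (algebraMap A R))) (SpecOver A C)) ≅
      Grp.mk (SpecOver R (R ⊗[A] C))) := by
  have h : IsMonHom ((pullbackSymmetry .. ≪≫ pullbackSpecIso' A R C).hom.asOver (Spec (.of R))) := inferInstance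
  let g : Red.bc (Spec.map (CommRingCat.ofHom (algebraMap A R))) (SpecOver A C) ⟶ SpecOver R (R ⊗[A] C) :=
    ((pullbackSymmetry .. ≪≫ pullbackSpecIso' A R C).hom.asOver (Spec (.of R)))
  have hg : IsMonHom g := h
  have h1 : IsIso g.left := by
    change IsIso ((pullbackSymmetry .. ≪≫ pullbackSpecIso' A R C).hom)
    infer_instance
  have : IsIso ((Over.forget _).map g) := h1
  have : IsIso g := isIso_of_reflects_iso _ (Over.forget _)
  have : IsMonHom (asIso g).hom := hg
  exact ⟨Grp.mkIso' (asIso g)⟩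

end Groth.Agent.Sga3B.Hens.Dict
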