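import Groth.Agent.Sga3B.Hens.FormDef
import Groth.Agent.Sga3A.MultBC

/-!
# Base change of forms attached to cocycles (helper825, for S3008)
-/

set_option autoImplicit false

universe u

open scoped TensorProduct

namespace Groth.Agent.Sga3B.Hens.FormBC

open GalDesc CocDefs FormDef Groth.Agent.Sga3A.MultBC

section tower

variable {A B B₁ R R₁ C D : Type u} [CommRing A] [CommRing B] [CommRing B₁] [CommRing R] [CommRing R₁]
  [CommRing C] [CommRing D]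
  [Algebra A R] [Algebra A R₁] [Algebra R R₁] [IsScalarTower A R R₁]
  [Algebra B R] [Algebra B R₁] [IsScalarTower B R R₁]
  [Algebra B B₁] [Algebra B₁ R₁] [IsScalarTower B B₁ R₁]
  [HopfAlgebra A C] [HopfAlgebra B D]

lemma bcTower_one_tmul (z : R ⊗[A] C) :
    bcTower A R R₁ C (1 ⊗ₜ z) =
      Algebra.TensorProduct.map (IsScalarTower.toAlgHom A R R₁) (AlgHom.id A C) z := by
  induction z using TensorProduct.induction_on with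
  | zero => simp
  | tmul r c => simp [Algebra.smul_def]
  | add x y hx hy => rw [TensorProduct.tmul_add, map_add, map_add, hx, hy]

variable (B₁) in
/-- Base change of an isomorphism `R ⊗ D ≃ R ⊗ C` along `R → R₁`. -/
noncomputable def bcPsi (ψ : R ⊗[B] D ≃ₐc[R] R ⊗[A] C) :
    R₁ ⊗[B₁] (B₁ ⊗[B] D) ≃ₐc[R₁] R₁ ⊗[A] C :=
  (bcTower B B₁ R₁ D).trans ((bcTower B R R₁ D).symm.trans
    ((bcCongr R R₁ ψ).trans (bcTower A R R₁ C)))

lemma bcPsi_apply (ψ : R ⊗[B] D ≃ₐc[R] R ⊗[A] C) (d : D) :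
    bcPsi B₁ (R₁ := R₁) ψ (1 ⊗ₜ (1 ⊗ₜ d)) =
      Algebra.TensorProduct.map (IsScalarTower.toAlgHom A R R₁) (AlgHom.id A C) (ψ (1 ⊗ₜ d)) := by
  change bcTower A R R₁ C (bcCongr R R₁ ψ ((bcTower B R R₁ D).symm (bcTower B B₁ R₁ D (1 ⊗ₜ (1 ⊗ₜ d))))) = _
  rw [bcTower_tmul_tmul, one_smul, bcTower_symm_tmul, bcCongr_tmul, bcTower_one_tmul]

end tower

variable {A A' C : Type u} [CommRing A] [CommRing A'] [Algebra A A'] [CommRing C] [HopfAlgebra A C]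
  {Γ : Type u} [Group Γ] [Fintype Γ] (g : GalData Γ A A')
  (B : Type u) [CommRing B] [Algebra A B]

/-- the semilinear maps `α γ ∘ sM γ` as `B`-linear maps. -/
noncomputable def vv (α : Γ → ((B ⊗[A] A') ⊗[A] C ≃ₐc[B ⊗[A] A'] (B ⊗[A] A') ⊗[A] C)) (γ : Γ) :
    (B ⊗[A] A') ⊗[A] C →ₗ[B] (B ⊗[A] A') ⊗[A] C where
  toFun z := α γ (sM C g B γ z)
  map_add' x y := by rw [map_add, map_add]
  map_smul' b z := by
    have h1 : b • z = (algebraMap B (B ⊗[A] A') b) • z := (algebraMap_smul _ b z).symm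
    have h2 : sR g B γ (algebraMap B (B ⊗[A] A') b) = algebraMap B (B ⊗[A] A') b := by
      rw [Algebra.TensorProduct.algebraMap_apply, sR_tmul, map_one]
    rw [h1, sM_smul, h2, map_smul, algebraMap_smul]
    rfl

lemma vv_smul (α : Γ → ((B ⊗[A] A') ⊗[A] C ≃ₐc[B ⊗[A] A'] (B ⊗[A] A') ⊗[A] C)) (γ : Γ)
    (r : B ⊗[A] A') (z : (B ⊗[A] A') ⊗[A] C) :
    vv g B α γ (r • z) = sR g B γ r • vv g B α γ z := by
  change α γ (sM C g B γ (r • z)) = sR g B γ r • α γ (sM C g B γ z)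
  rw [sM_smul, map_smul]

theorem nonempty_equiv (B₁ : Type u) [CommRing B₁] [Algebra A B₁] [Algebra B B₁] [IsScalarTower A B B₁]
    (α : Γ → ((B ⊗[A] A') ⊗[A] C ≃ₐc[B ⊗[A] A'] (B ⊗[A] A') ⊗[A] C))
    (α₁ : Γ → ((B₁ ⊗[A] A') ⊗[A] C ≃ₐc[B₁ ⊗[A] A'] (B₁ ⊗[A] A') ⊗[A] C))
    (hα : ∀ γ, IsBC (bcR A' (IsScalarTower.toAlgHom A B B₁)) (α γ) (α₁ γ))
    {D : Type u} [CommRing D] [HopfAlgebra B D]
    (ψ : (B ⊗[A] A') ⊗[B] D ≃ₐc[B ⊗[A] A'] (B ⊗[A] A') ⊗[A] C) (hψ : IsForm g B α ψ)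
    {D₁ : Type u} [CommRing D₁] [HopfAlgebra B₁ D₁]
    (ψ₁ : (B₁ ⊗[A] A') ⊗[B₁] D₁ ≃ₐc[B₁ ⊗[A] A'] (B₁ ⊗[A] A') ⊗[A] C) (hψ₁ : IsForm g B₁ α₁ ψ₁) :
    Nonempty (B₁ ⊗[B] D ≃ₐc[B₁] D₁) := by
  let φ : B →ₐ[A] B₁ := IsScalarTower.toAlgHom A B B₁
  let : Algebra (B ⊗[A] A') (B₁ ⊗[A] A') := (bcR A' φ).toRingHom.toAlgebra
  have hmap : ∀ r, algebraMap (B ⊗[A] A') (B₁ ⊗[A] A') r = bcR A' φ r := fun r => rfl
  have : IsScalarTower A (B ⊗[A] A') (B₁ ⊗[A] A') :=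
    IsScalarTower.of_algebraMap_eq fun a => by rw [hmap, AlgHom.commutes]
  have : IsScalarTower B (B ⊗[A] A') (B₁ ⊗[A] A') :=
    IsScalarTower.of_algebraMap_eq fun b => by
      rw [hmap]
      change algebraMap B B₁ b ⊗ₜ[A] (1 : A') = bcR A' φ (b ⊗ₜ[A] (1 : A'))
      rw [Algebra.TensorProduct.map_tmul, map_one]
      rfl
  have htower : IsScalarTower.toAlgHom A (B ⊗[A] A') (B₁ ⊗[A] A') = bcR A' φ :=
    AlgHom.ext fun r => hmap r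
  let e := bcPsi B₁ (R₁ := B₁ ⊗[A] A') ψ
  have he1 : ∀ d : D, e (1 ⊗ₜ (1 ⊗ₜ d)) = bcM C (bcR A' φ) (ψ (1 ⊗ₜ d)) := fun d => by
    rw [← htower]
    exact bcPsi_apply ψ d
  have he : ∀ γ (x : B₁ ⊗[B] D), vv g B₁ α₁ γ (e (1 ⊗ₜ x)) = e (1 ⊗ₜ x) := by
    intro γ x
    induction x using TensorProduct.induction_on with
    | zero => simp
    | add x y hx hy => rw [TensorProduct.tmul_add, map_add, map_add, hx, hy]
    | tmul b d =>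
      have h1 : (1 : B₁ ⊗[A] A') ⊗ₜ[B₁] (b ⊗ₜ[B] d) =
          algebraMap B₁ (B₁ ⊗[A] A') b • ((1 : B₁ ⊗[A] A') ⊗ₜ[B₁] ((1 : B₁) ⊗ₜ[B] d)) := by
        rw [TensorProduct.smul_tmul', smul_eq_mul, mul_one, Algebra.algebraMap_eq_smul_one,
          TensorProduct.smul_tmul, TensorProduct.smul_tmul', smul_eq_mul, mul_one]
      have h2 : sR g B₁ γ (algebraMap B₁ (B₁ ⊗[A] A') b) = algebraMap B₁ (B₁ ⊗[A] A') b := by
        rw [Algebra.TensorProduct.algebraMap_apply, sR_tmul, map_one]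
      rw [h1, map_smul, vv_smul, h2, he1]
      congr 1
      change α₁ γ (sM C g B₁ γ (bcM C (bcR A' φ) (ψ (1 ⊗ₜ d)))) = _
      rw [← bcM_sM, hα γ, hψ γ d]
  obtain ⟨f, -⟩ := (g.baseChange B₁).exists_equiv (vv g B₁ α₁) (fun γ r m => vv_smul g B₁ α₁ γ r m)
    e he ψ₁ (fun γ d => hψ₁ γ d)
  exact ⟨f⟩

end Groth.Agent.Sga3B.Hens.FormBC
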