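import Groth.Agent.Sga3B.AlgBc2
import Mathlib.AlgebraicGeometry.Morphisms.QuasiFinite

/-!
# Descent of reductivity along finite (more generally locally quasi-finite) fpqc covers

`isReductive_of_bc`, `isSemisimple_of_bc`: `A → A'` finite and faithfully flat, `G_{A'}` reductive
(semisimple) ⇒ `G` reductive (semisimple).  `isReductive_bc` etc.: the converse.
-/

set_option autoImplicit false
open CategoryTheory AlgebraicGeometry
universe u

namespace Groth.Agent.Sga3B.Hens.RedDesc

open Groth.Agent.Sga3B Groth.Agent.Sga3B.ResAlg

/-- locally quasi-finite morphisms have algebraic residue field extensions -/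
theorem algRes_of_locallyQuasiFinite {X Y : Scheme.{u}} (f : X ⟶ Y) [LocallyQuasiFinite f] : AlgRes f where
  isIntegral x := by
    let k := Y.residueField (f x)
    let k' := X.residueField x
    have hfin : (f.residueFieldMap x).hom.Finite := by
      have h1 : (f.stalkMap x).hom.QuasiFinite := f.quasiFiniteAt x
      have h2 : (X.residue x).hom.QuasiFinite :=
        RingHom.QuasiFinite.of_finite (RingHom.Finite.of_surjective _ (X.residue_surjective _))
      have h3 := h2.comp h1
      rw [← CommRingCat.hom_comp, ← Scheme.residue_residueFieldMap, CommRingCat.hom_comp] at h3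
      have h4 : (f.residueFieldMap x).hom.QuasiFinite := RingHom.QuasiFinite.of_comp h3
      let i : Algebra k k' := (f.residueFieldMap x).hom.toAlgebra
      have : Algebra.QuasiFinite k k' := h4
      exact (Module.Finite.of_quasiFinite : Module.Finite k k')
    exact hfin.to_isIntegral

variable {A A' : Type u} [CommRing A] [CommRing A'] [Algebra A A'] [Module.Finite A A']

instance isFinite_SpecMap : IsFinite (Spec.map (CommRingCat.ofHom (algebraMap A A'))) := by
  rw [IsFinite.SpecMap_iff]
  exact RingHom.finite_algebraMap.mpr inferInstance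

instance algRes_SpecMap_finite : AlgRes (Spec.map (CommRingCat.ofHom (algebraMap A A'))) :=
  algRes_of_locallyQuasiFinite _

section Flat

variable [Module.FaithfullyFlat A A']

instance flat_SpecMap : Flat (Spec.map (CommRingCat.ofHom (algebraMap A A'))) := by
  rw [Flat.SpecMap_iff]
  exact RingHom.flat_algebraMap_iff.mpr inferInstance

instance surjective_SpecMap : Surjective (Spec.map (CommRingCat.ofHom (algebraMap A A'))) :=
  ⟨PrimeSpectrum.comap_surjective_of_faithfullyFlat (A := A) (B := A')⟩

/-- a quasi-compact surjective morphism is an fpqc cover -/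
lemma qc_cover {X Y : Scheme.{u}} (f : X ⟶ Y) [QuasiCompact f] [Surjective f] (V : Y.Opens)
    (hV : IsAffineOpen V) : ∃ W : X.Opens, IsCompact (W : Set X) ∧ f.base '' (W : Set X) = (V : Set Y) := by
  refine ⟨f ⁻¹ᵁ V, f.isCompact_preimage hV.isCompact, ?_⟩
  exact Set.image_preimage_eq _ f.surjective

/-- **Reductivity descends along finite faithfully flat ring maps.** -/
theorem isReductive_of_bc (G : Over (Spec (CommRingCat.of A))) [GrpObj G]
    (h : Red.IsReductive (Red.bc (Spec.map (CommRingCat.ofHom (algebraMap A A'))) G)) : Red.IsReductive G :=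
  AlgBc.isReductive_of_bc (Spec.map (CommRingCat.ofHom (algebraMap A A'))) (qc_cover _) h

/-- **Semisimplicity descends along finite faithfully flat ring maps.** -/
theorem isSemisimple_of_bc (G : Over (Spec (CommRingCat.of A))) [GrpObj G]
    (h : Red.IsSemisimple (Red.bc (Spec.map (CommRingCat.ofHom (algebraMap A A'))) G)) : Red.IsSemisimple G :=
  AlgBc.isSemisimple_of_bc (Spec.map (CommRingCat.ofHom (algebraMap A A'))) (qc_cover _) h

end Flat

/-- Reductivity is stable under base change along finite ring maps. -/
theorem isReductive_bc {G : Over (Spec (CommRingCat.of A))} [GrpObj G] (h : Red.IsReductive G) :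
    Red.IsReductive (Red.bc (Spec.map (CommRingCat.ofHom (algebraMap A A'))) G) :=
  AlgBc.isReductive_bc _ h

end Groth.Agent.Sga3B.Hens.RedDesc
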