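import Groth.Agent.Sga3B.Hens.CocHens2
import Groth.Agent.Sga3B.Hens.CocScheme
import Groth.Agent.Sga3B.Hens.FormBC
import Groth.Agent.Sga3B.Hens.CocForm
import Groth.Agent.Sga3B.Hens.Dict
import Groth.Agent.Sga3B.Hens.RedDesc

/-!
# Lifting of forms of a reductive group over a henselian local ring
-/

set_option autoImplicit false

universe u

open CategoryTheory MonoidalCategory CartesianMonoidalCategory AlgebraicGeometry Limits
open scoped TensorProduct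

namespace Groth.Agent.Sga3B.Hens.Final3008

open Groth.Agent.Books.AffBridge GalDesc CocDefs IsLocalRing FormDef

/-- reductivity of forms. -/
theorem isReductive_form {A A' C : Type u} [CommRing A] [CommRing A'] [Algebra A A'] [CommRing C]
    [HopfAlgebra A C] [Module.Finite A A'] [Module.FaithfullyFlat A A']
    (h : Red.IsReductive (SpecOver A C)) (D : Type u) [CommRing D] [HopfAlgebra A D]
    (ψ : A' ⊗[A] D ≃ₐc[A'] A' ⊗[A] C) :
    Red.IsReductive (SpecOver A D) := by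
  apply RedDesc.isReductive_of_bc (A' := A')
  obtain ⟨e1⟩ := Dict.bc_specOver A C A'
  obtain ⟨e2⟩ := Dict.bc_specOver A D A'
  obtain ⟨e3⟩ := (Dict.nonempty_bialgEquiv A' (A' ⊗[A] C) (A' ⊗[A] D)).mpr ⟨ψ.symm⟩
  exact AlgBc.isReductive_of_iso (e1 ≪≫ e3 ≪≫ e2.symm) (RedDesc.isReductive_bc (A' := A') h)

theorem final (A : Type u) [CommRing A] [HenselianLocalRing A]
    (G₀ : Over (Spec (CommRingCat.of (ResidueField A)))) [GrpObj G₀]
    (Γ : Type u) [Group Γ] [Fintype Γ] (A' : Type u) [CommRing A'] [Algebra A A']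
    [Module.Finite A A'] [Module.Free A A'] (g : GalData Γ A A')
    (C : Type u) [CommRing C] [HopfAlgebra A C]
    (C₀ : Type u) [CommRing C₀] [HopfAlgebra (ResidueField A) C₀]
    (h1 : IsField (ResidueField A ⊗[A] A')) (h2 : Red.IsReductive (SpecOver A C))
    (h3 : Nonempty (Grp.mk (SpecOver (ResidueField A) C₀) ≅ Grp.mk G₀))
    (ψ : (ResidueField A ⊗[A] A') ⊗[ResidueField A] C₀ ≃ₐc[ResidueField A ⊗[A] A']
      (ResidueField A ⊗[A] A') ⊗[A] C)
    (hrep : ∃ (𝒢 : Over (Spec (CommRingCat.of A))) (υ : SpecOver A C ⊗ 𝒢 ⟶ SpecOver A C),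
      AutFam.RepresentsIsom (SpecOver A C) (SpecOver A C) 𝒢 υ ∧ Smooth 𝒢.hom ∧ IsSeparated 𝒢.hom) :
    ∃ (G : Over (Spec (CommRingCat.of A))) (_ : GrpObj G), Red.IsReductive G ∧
      Nonempty (Grp.mk (Red.bc (Spec.map (CommRingCat.ofHom (IsLocalRing.residue A))) G) ≅ Grp.mk G₀) := by
  obtain ⟨𝒢, υ, hυ, hsm, hsep⟩ := hrep
  obtain ⟨pt, hpt⟩ := Dict.exists_pt A C 𝒢 υ hυ
  obtain ⟨α₁, hα₁, hψ⟩ := CocForm.exists_cocycle_of_form g (ResidueField A) ψ
  obtain ⟨α, hα, hαc⟩ := CocHens2.exists_lift_cocycle g 𝒢 pt hpt h1 α₁ hα₁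
  obtain ⟨D, _, _, ψ', hψ'⟩ := CocForm.exists_form_of_cocycle g A α hαc
  obtain ⟨e⟩ := FormBC.nonempty_equiv g A (ResidueField A) α α₁ hα ψ' hψ' ψ hψ
  obtain ⟨e0⟩ := h3
  obtain ⟨e1⟩ := Dict.bc_specOver A D (ResidueField A)
  obtain ⟨e2⟩ := (Dict.nonempty_bialgEquiv (ResidueField A) (ResidueField A ⊗[A] D) C₀).mpr ⟨e⟩
  have hff := (g.baseChange A).faithfullyFlat
  refine ⟨SpecOver A D, inferInstance, ?_, ⟨e1 ≪≫ e2 ≪≫ e0⟩⟩
  exact isReductive_form (A' := A ⊗[A] A') h2 D ψ'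

end Groth.Agent.Sga3B.Hens.Final3008
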