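import Groth.Agent.Sga3B.Hens.GalLift
import Groth.Agent.Sga3B.Hens.Dict
import Groth.Agent.Sga3B.DsBc
import Groth.Agent.Sga3B.AffHopf
import Groth.Agent.Sga3B.RedBc892
import Groth.Agent.Sga3B.RG.RedExt885

/-!
# A reductive group over the residue field of a henselian local ring as a Galois form

`exists_split_form_of`: if `G₀` over the residue field `k` of `A` becomes isomorphic over a finite Galois extension
`K` to the base change of a reductive `ℤ`-group, then there are a Galois algebra `A'` over `A` lifting `K`, a Hopf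
algebra `C` over `A` with `Spec C` reductive, a Hopf algebra `C₀` of `G₀` and an isomorphism of Hopf algebras
`(k ⊗ A') ⊗ C₀ ≅ (k ⊗ A') ⊗ C` over `k ⊗ A'`.
-/

set_option autoImplicit false

universe u

open CategoryTheory MonoidalCategory CartesianMonoidalCategory AlgebraicGeometry Limits
open scoped TensorProduct

namespace Groth.Agent.Sga3B.Hens.SplitFormOf

open Groth.Agent.Books.AffBridge GalDesc IsLocalRing MonObj GrpObj

/-- the extension of reductive groups, unconditional -/
theorem redExt : RedBc892.RedExt.{u} := fun _ _ _ _ _ _ _ _ _ _ _ _ h => RG.BcPt.isRedPt_ext h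

/-- Reductive groups are stable under arbitrary base change. -/
theorem isReductive_bc {S S' : Scheme.{u}} (f : S' ⟶ S) {G : Over S} [GrpObj G] (h : Red.IsReductive G) :
    Red.IsReductive (Red.bc f G) := RedBc892.isReductive_bc redExt f h

/-- an affine group over an affine base is the spectrum of a Hopf algebra -/
theorem exists_hopf_iso {R : Type u} [CommRing R] (G : Over (Spec (CommRingCat.of R))) [GrpObj G]
    (h : IsAffineHom G.hom) :
    ∃ (C : Type u) (_ : CommRing C) (_ : HopfAlgebra R C), Nonempty (Grp.mk (SpecOver R C) ≅ Grp.mk G) := by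
  have : IsAffine G.left := isAffine_of_isAffineHom G.hom
  have h2 : (hopfSpec (CommRingCat.of R)).essImage (Grp.mk G) := essImage_hopfSpec.2 this
  obtain ⟨C, ⟨e⟩⟩ := h2
  exact ⟨C.unop, inferInstance, inferInstance, ⟨e⟩⟩

theorem exists_split_form_of (A : Type u) [CommRing A] [HenselianLocalRing A]
    (G₀ : Over (Spec (CommRingCat.of (ResidueField A)))) [GrpObj G₀] (h₀ : Red.IsReductive G₀)
    (H : Over (Spec (CommRingCat.of (ULift.{u} ℤ)))) [GrpObj H] (hH : Red.IsReductive H)
    (K : Type u) [Field K] [Algebra (ResidueField A) K] [FiniteDimensional (ResidueField A) K]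
    [IsGalois (ResidueField A) K]
    (e0 : Grp.mk (Red.bc (Spec.map (CommRingCat.ofHom (algebraMap (ResidueField A) K))) G₀) ≅
      Grp.mk (Red.bc (Limits.IsTerminal.from specULiftZIsTerminal (Spec (CommRingCat.of K))) H)) :
    ∃ (Γ : Type u) (_ : Group Γ) (_ : Fintype Γ) (A' : Type u) (_ : CommRing A') (_ : Algebra A A')
      (_ : Module.Finite A A') (_ : Module.Free A A') (_ : GalData Γ A A')
      (C : Type u) (_ : CommRing C) (_ : HopfAlgebra A C)
      (C₀ : Type u) (_ : CommRing C₀) (_ : HopfAlgebra (ResidueField A) C₀),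
      IsField (ResidueField A ⊗[A] A') ∧ Red.IsReductive (SpecOver A C) ∧
      Nonempty (Grp.mk (SpecOver (ResidueField A) C₀) ≅ Grp.mk G₀) ∧
      Nonempty ((ResidueField A ⊗[A] A') ⊗[ResidueField A] C₀ ≃ₐc[ResidueField A ⊗[A] A']
        (ResidueField A ⊗[A] A') ⊗[A] C) := by
  classical
  let iF : Fintype (K ≃ₐ[ResidueField A] K) := Fintype.ofFinite _
  obtain ⟨A', i1, i2, i3, i4, g, e, -⟩ := GalLift.exists_galData A K
  -- the group over `A`
  let HA := Red.bc (Limits.IsTerminal.from specULiftZIsTerminal (Spec (CommRingCat.of A))) H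
  have hHA : Red.IsReductive HA := isReductive_bc _ hH
  obtain ⟨C, j1, j2, ⟨eC⟩⟩ := exists_hopf_iso HA hHA.1
  obtain ⟨C₀, l1, l2, ⟨eC₀⟩⟩ := exists_hopf_iso G₀ h₀.1
  refine ⟨K ≃ₐ[ResidueField A] K, inferInstance, iF, A', i1, i2, i3, i4, g, C, j1, j2, C₀, l1, l2,
    ?_, ?_, ⟨eC₀⟩, ?_⟩
  · exact e.toMulEquiv.isField (Field.toIsField K)
  · exact AlgBc.isReductive_of_iso eC.symm hHA
  · let R := ResidueField A ⊗[A] A'
    let q : Spec (CommRingCat.of R) ⟶ Spec (CommRingCat.of K) :=
      Spec.map (CommRingCat.ofHom (e.symm : K →+* R))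
    have hq : q ≫ Spec.map (CommRingCat.ofHom (algebraMap (ResidueField A) K)) =
        Spec.map (CommRingCat.ofHom (algebraMap (ResidueField A) R)) := by
      rw [← Spec.map_comp, ← CommRingCat.ofHom_comp]
      congr 2
      ext x
      exact e.symm.commutes x
    obtain ⟨a1⟩ := Dict.bc_specOver (ResidueField A) C₀ R
    obtain ⟨a2⟩ := Dict.bc_specOver A C R
    refine (Dict.nonempty_bialgEquiv R _ _).1 ⟨?_⟩
    refine a1.symm ≪≫ BcIso.bcMapIso _ eC₀ ≪≫ BcIso.bcCongrIso hq.symm G₀ ≪≫ BcIso.bcCompIso q _ G₀ ≪≫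
      BcIso.bcMapIso q e0 ≪≫ DsBc.constIso q H ≪≫
      (DsBc.constIso (Spec.map (CommRingCat.ofHom (algebraMap A R))) H).symm ≪≫
      (BcIso.bcMapIso _ eC).symm ≪≫ a2

end Groth.Agent.Sga3B.Hens.SplitFormOf
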