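import Groth.Agent.Sga3B.Hens.CocycleFix
import Mathlib.RingTheory.HopfAlgebra.Basic
import Mathlib.RingTheory.Bialgebra.Equiv
import Mathlib.RingTheory.Ideal.Operations
import Mathlib.LinearAlgebra.TensorProduct.Tower

/-!
# Infinitesimal correction of semilinear actions on Hopf algebras

`M` an `R`-bialgebra with semilinear bialgebra automorphisms `α γ ∘ s γ` (`γ ∈ Γ`) which are
multiplicative modulo a square-zero `Γ`-stable ideal `J` of `R`; then the linear parts `α γ` can be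
changed modulo `J` such that one gets an action.
-/

set_option autoImplicit false

open TensorProduct

namespace Groth.Agent.Sga3B.Hens.InfAct

section sq

variable {R M : Type*} [CommRing R] [CommRing M] [Algebra R M] {J : Ideal R}

lemma smul_eq_zero_of_mem (hJ : ∀ i ∈ J, ∀ j ∈ J, i * j = 0) {j : R} (hj : j ∈ J) {x : M}
    (hx : x ∈ J • (⊤ : Submodule R M)) : j • x = 0 := by
  induction hx using Submodule.smul_induction_on' with
  | smul i hi m _ => rw [smul_smul, hJ j hj i hi, zero_smul]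
  | add x _ y _ hx hy => rw [smul_add, hx, hy, add_zero]

lemma mul_eq_zero_of_mem (hJ : ∀ i ∈ J, ∀ j ∈ J, i * j = 0) {x y : M}
    (hx : x ∈ J • (⊤ : Submodule R M)) (hy : y ∈ J • (⊤ : Submodule R M)) : x * y = 0 := by
  induction hx using Submodule.smul_induction_on' with
  | smul i hi m _ => rw [smul_mul_assoc, ← mul_smul_comm, smul_eq_zero_of_mem hJ hi hy, mul_zero]
  | add x _ z _ hx hz => rw [add_mul, hx, hz, add_zero]

lemma tmul_eq_zero_of_mem (hJ : ∀ i ∈ J, ∀ j ∈ J, i * j = 0) {x y : M}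
    (hx : x ∈ J • (⊤ : Submodule R M)) (hy : y ∈ J • (⊤ : Submodule R M)) : x ⊗ₜ[R] y = 0 := by
  induction hx using Submodule.smul_induction_on' with
  | smul i hi m _ =>
    rw [TensorProduct.smul_tmul, smul_eq_zero_of_mem hJ hi hy, TensorProduct.tmul_zero]
  | add x _ z _ hx hz => rw [TensorProduct.add_tmul, hx, hz, add_zero]

end sq

variable {R M : Type*} [CommRing R] [CommRing M] [Bialgebra R M]

/-- Infinitesimal automorphisms of the bialgebra `M` with values in `J`, as a group of additive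
endomorphisms. -/
def inf (J : Ideal R) : AddSubgroup (AddMonoid.End M) where
  carrier := {D | (∀ (r : R) m, D (r • m) = r • D m) ∧ (∀ m, D m ∈ J • (⊤ : Submodule R M)) ∧
    (∀ x y, D (x * y) = x * D y + D x * y) ∧ (∀ m, Coalgebra.counit (R := R) (D m) = 0) ∧
    ∃ F : M ⊗[R] M →+ M ⊗[R] M, (∀ a b, F (a ⊗ₜ b) = D a ⊗ₜ b + a ⊗ₜ D b) ∧
      ∀ m, Coalgebra.comul (R := R) (D m) = F (Coalgebra.comul (R := R) m)}
  add_mem' := by
    rintro D D' ⟨h1, h2, h3, h4, F, h5, h6⟩ ⟨h1', h2', h3', h4', F', h5', h6'⟩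
    refine ⟨fun r m => ?_, fun m => ?_, fun x y => ?_, fun m => ?_, F + F', fun a b => ?_, fun m => ?_⟩
    · change D _ + D' _ = r • (D _ + D' _)
      rw [h1, h1', smul_add]
    · exact Submodule.add_mem _ (h2 m) (h2' m)
    · change D _ + D' _ = x * (D _ + D' _) + (D _ + D' _) * y
      rw [h3, h3']; ring
    · change Coalgebra.counit (R := R) (D _ + D' _) = 0
      rw [map_add, h4, h4', add_zero]
    · change F _ + F' _ = (D _ + D' _) ⊗ₜ _ + _ ⊗ₜ (D _ + D' _)
      rw [h5, h5', TensorProduct.add_tmul, TensorProduct.tmul_add]; abel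
    · change Coalgebra.comul (R := R) (D _ + D' _) = F _ + F' _
      rw [map_add, h6, h6']
  zero_mem' := by
    refine ⟨fun r m => ?_, fun m => ?_, fun x y => ?_, fun m => ?_, 0, fun a b => ?_, fun m => ?_⟩
    · change (0 : M) = r • 0
      simp
    · exact Submodule.zero_mem _
    · change (0 : M) = x * 0 + 0 * y
      simp
    · change Coalgebra.counit (R := R) (0 : M) = 0
      simp
    · change (0 : M ⊗[R] M) = (0 : M) ⊗ₜ b + a ⊗ₜ (0 : M)
      simp
    · change Coalgebra.comul (R := R) (0 : M) = 0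
      simp
  neg_mem' := by
    rintro D ⟨h1, h2, h3, h4, F, h5, h6⟩
    refine ⟨fun r m => ?_, fun m => ?_, fun x y => ?_, fun m => ?_, -F, fun a b => ?_, fun m => ?_⟩
    · change -D _ = r • (-D _)
      rw [h1, smul_neg]
    · exact Submodule.neg_mem _ (h2 m)
    · change -D _ = x * (-D _) + (-D _) * y
      rw [h3]; ring
    · change Coalgebra.counit (R := R) (-D _) = 0
      rw [map_neg, h4, neg_zero]
    · change -F _ = (-D _) ⊗ₜ _ + _ ⊗ₜ (-D _)
      rw [h5, TensorProduct.neg_tmul, TensorProduct.tmul_neg]; abel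
    · change Coalgebra.comul (R := R) (-D _) = -F _
      rw [map_neg, h6]

variable {J : Ideal R}

lemma mem_inf {D : AddMonoid.End M} : D ∈ inf (M := M) J ↔
    (∀ (r : R) m, D (r • m) = r • D m) ∧ (∀ m, D m ∈ J • (⊤ : Submodule R M)) ∧
    (∀ x y, D (x * y) = x * D y + D x * y) ∧ (∀ m, Coalgebra.counit (R := R) (D m) = 0) ∧
    ∃ F : M ⊗[R] M →+ M ⊗[R] M, (∀ a b, F (a ⊗ₜ b) = D a ⊗ₜ b + a ⊗ₜ D b) ∧
      ∀ m, Coalgebra.comul (R := R) (D m) = F (Coalgebra.comul (R := R) m) := Iff.rfl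

lemma smul_mem_inf (r : R) (D : AddMonoid.End M) (hD : D ∈ inf (M := M) J) :
    Module.toAddMonoidEnd R M r * D ∈ inf (M := M) J := by
  obtain ⟨h1, h2, h3, h4, F, h5, h6⟩ := hD
  refine ⟨fun s m => ?_, fun m => ?_, fun x y => ?_, fun m => ?_,
    (Module.toAddMonoidEnd R (M ⊗[R] M) r).comp F, fun a b => ?_, fun m => ?_⟩
  · change r • D _ = s • r • D _
    rw [h1, smul_comm]
  · exact Submodule.smul_mem _ _ (h2 m)
  · change r • D _ = x * (r • D _) + (r • D _) * y
    rw [h3, smul_add, mul_smul_comm, smul_mul_assoc]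
  · change Coalgebra.counit (R := R) (r • D _) = 0
    rw [map_smul, h4, smul_zero]
  · change r • F _ = (r • D _) ⊗ₜ _ + _ ⊗ₜ (r • D _)
    rw [h5, smul_add, TensorProduct.smul_tmul', TensorProduct.tmul_smul]
  · change Coalgebra.comul (R := R) (r • D _) = r • F _
    rw [map_smul, h6]

lemma mul_eq_zero_inf (hJ : ∀ i ∈ J, ∀ j ∈ J, i * j = 0) (D : AddMonoid.End M)
    (hD : D ∈ inf (M := M) J) (D' : AddMonoid.End M) (hD' : D' ∈ inf (M := M) J) : D * D' = 0 := by
  ext m
  change D (D' m) = 0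
  have h := hD'.2.1 m
  generalize D' m = x at h
  induction h using Submodule.smul_induction_on' with
  | smul i hi m _ => rw [hD.1, smul_eq_zero_of_mem hJ hi (hD.2.1 m)]
  | add x _ y _ hx hy => rw [map_add, hx, hy, add_zero]

/-- A linear bialgebra automorphism congruent to the identity, minus the identity. -/
lemma sub_one_mem_inf (hJ : ∀ i ∈ J, ∀ j ∈ J, i * j = 0) (α : AddMonoid.End M)
    (h1 : ∀ (r : R) m, α (r • m) = r • α m) (h2 : ∀ m, α m - m ∈ J • (⊤ : Submodule R M))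
    (h3 : ∀ x y, α (x * y) = α x * α y)
    (h4 : ∀ m, Coalgebra.counit (R := R) (α m) = Coalgebra.counit (R := R) m)
    (F : M ⊗[R] M →+ M ⊗[R] M) (h5 : ∀ a b, F (a ⊗ₜ b) = α a ⊗ₜ α b)
    (h6 : ∀ m, Coalgebra.comul (R := R) (α m) = F (Coalgebra.comul (R := R) m)) :
    α - 1 ∈ inf (M := M) J := by
  refine ⟨fun r m => ?_, h2, fun x y => ?_, fun m => ?_, F - AddMonoidHom.id _, fun a b => ?_,
    fun m => ?_⟩
  · change α (r • m) - r • m = r • (α m - m)
    rw [h1, smul_sub]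
  · change α (x * y) - x * y = x * (α y - y) + (α x - x) * y
    have := mul_eq_zero_of_mem hJ (h2 x) (h2 y)
    rw [h3]
    linear_combination this
  · change Coalgebra.counit (R := R) (α m - m) = 0
    rw [map_sub, h4, sub_self]
  · change F _ - a ⊗ₜ b = (α a - a) ⊗ₜ b + a ⊗ₜ (α b - b)
    have := tmul_eq_zero_of_mem hJ (h2 a) (h2 b)
    rw [TensorProduct.sub_tmul, TensorProduct.tmul_sub, TensorProduct.tmul_sub] at this
    rw [h5, TensorProduct.sub_tmul, TensorProduct.tmul_sub]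
    rw [sub_sub, sub_eq_zero] at this
    rw [this]; abel
  · change Coalgebra.comul (R := R) (α m - m) = F _ - _
    rw [map_sub, h6]; rfl

/-- `1 - D` as a bialgebra automorphism. -/
lemma exists_equiv (hJ : ∀ i ∈ J, ∀ j ∈ J, i * j = 0) (D : AddMonoid.End M)
    (hD : D ∈ inf (M := M) J) : ∃ β : M ≃ₐc[R] M, ∀ m, β m = m - D m := by
  have hD' := hD
  obtain ⟨h1, h2, h3, h4, F, h5, h6⟩ := hD
  have hone : D 1 = 0 := by
    have := h3 1 1
    rw [mul_one, one_mul, mul_one] at this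
    exact (add_eq_left.mp this.symm)
  let f : M →ₐ[R] M :=
    { toFun := fun m => m - D m
      map_one' := by rw [hone, sub_zero]
      map_mul' := fun x y => by
        have := mul_eq_zero_of_mem hJ (h2 x) (h2 y)
        rw [h3]
        linear_combination (-1 : M) * this
      map_zero' := by rw [map_zero, sub_zero]
      map_add' := fun x y => by rw [map_add]; ring
      commutes' := fun r => by
        rw [Algebra.algebraMap_eq_smul_one, h1, hone, smul_zero, sub_zero] }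
  have hf : ∀ m, f m = m - D m := fun m => rfl
  have hbij : Function.Bijective f := by
    have hDD : ∀ m, D (D m) = 0 := fun m => congrArg (fun k : AddMonoid.End M => k m)
      (mul_eq_zero_inf hJ D hD' D hD')
    refine ⟨Function.LeftInverse.injective (g := fun m => m + D m) fun m => ?_,
      Function.RightInverse.surjective (g := fun m => m + D m) fun m => ?_⟩
    · simp only [hf, map_sub, hDD]; ring
    · simp only [hf, map_add, hDD]; ring
  let G : M →ₐc[R] M := BialgHom.ofAlgHom f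
    (by
      ext m
      change Coalgebra.counit (R := R) (m - D m) = Coalgebra.counit (R := R) m
      rw [map_sub, h4, sub_zero])
    (by
      ext m
      change Algebra.TensorProduct.map f f (Coalgebra.comul (R := R) m) =
        Coalgebra.comul (R := R) (m - D m)
      rw [map_sub, h6]
      generalize Coalgebra.comul (R := R) m = z
      induction z using TensorProduct.induction_on with
      | zero => simp
      | tmul a b =>
        have := tmul_eq_zero_of_mem hJ (h2 a) (h2 b)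
        rw [Algebra.TensorProduct.map_tmul, hf, hf, h5, TensorProduct.sub_tmul,
          TensorProduct.tmul_sub, TensorProduct.tmul_sub, this]
        abel
      | add x y hx hy => rw [map_add, hx, hy, map_add]; abel)
  exact ⟨BialgEquiv.ofBijective G hbij, fun m => rfl⟩

/-- Conjugation by semilinear automorphisms. -/
lemma conj_mem_inf (σ τ : R → R) (u w : AddMonoid.End M) (huw : ∀ m, u (w m) = m)
    (hwu : ∀ m, w (u m) = m)
    (hστ : ∀ r, σ (τ r) = r) (hJσ : ∀ j ∈ J, σ j ∈ J)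
    (hu : ∀ (r : R) m, u (r • m) = σ r • u m)
    (hum : ∀ x y, u (x * y) = u x * u y)
    (hσ0 : σ 0 = 0)
    (huc : ∀ m, Coalgebra.counit (R := R) (u m) = σ (Coalgebra.counit (R := R) m))
    (F F' : M ⊗[R] M →+ M ⊗[R] M) (hF : ∀ a b, F (a ⊗ₜ b) = u a ⊗ₜ u b)
    (hF' : ∀ a b, F' (a ⊗ₜ b) = w a ⊗ₜ w b)
    (hFc : ∀ m, Coalgebra.comul (R := R) (u m) = F (Coalgebra.comul (R := R) m))
    (D : AddMonoid.End M) (hD : D ∈ inf (M := M) J) : u * D * w ∈ inf (M := M) J := by
  obtain ⟨h1, h2, h3, h4, G, h5, h6⟩ := hD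
  have hw : ∀ (r : R) m, w (r • m) = τ r • w m := fun r m => by
    rw [← hwu (τ r • w m), hu, hστ, huw]
  have hwm : ∀ x y, w (x * y) = w x * w y := fun x y => by
    rw [← hwu (w x * w y), hum, huw, huw]
  have hmem : ∀ x ∈ J • (⊤ : Submodule R M), u x ∈ J • (⊤ : Submodule R M) := by
    intro x hx
    induction hx using Submodule.smul_induction_on' with
    | smul i hi m _ =>
      rw [hu]
      exact Submodule.smul_mem_smul (hJσ i hi) trivial
    | add x _ y _ hx hy => rw [map_add]; exact Submodule.add_mem _ hx hy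
  refine ⟨fun r m => ?_, fun m => hmem _ (h2 _), fun x y => ?_, fun m => ?_, (F.comp G).comp F',
    fun a b => ?_, fun m => ?_⟩
  · change u (D (w (r • m))) = r • u (D (w m))
    rw [hw, h1, hu, hστ]
  · change u (D (w (x * y))) = x * u (D (w y)) + u (D (w x)) * y
    rw [hwm, h3, map_add, hum, hum, huw, huw]
  · change Coalgebra.counit (R := R) (u (D (w m))) = 0
    rw [huc, h4, hσ0]
  · change F (G (F' (a ⊗ₜ b))) = u (D (w a)) ⊗ₜ b + a ⊗ₜ u (D (w b))
    rw [hF', h5, map_add, hF, hF, huw, huw]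
  · change Coalgebra.comul (R := R) (u (D (w m))) = F (G (F' _))
    have hFF : ∀ z, F' (F z) = z := by
      intro z
      induction z using TensorProduct.induction_on with
      | zero => simp
      | tmul a b => rw [hF, hF', hwu, hwu]
      | add x y hx hy => rw [map_add, map_add, hx, hy]
    rw [hFc, h6]
    congr 2
    rw [← hFF (Coalgebra.comul (R := R) (w m)), ← hFc, huw]

/-- A bialgebra automorphism on `M ⊗ M`. -/
lemma comul_equiv (α : M ≃ₐc[R] M) (m : M) : Coalgebra.comul (R := R) (α m) =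
    Algebra.TensorProduct.map (α : M →ₐ[R] M) (α : M →ₐ[R] M) (Coalgebra.comul (R := R) m) :=
  (CoalgHomClass.map_comp_comul_apply α m).symm

theorem exists_action {Γ : Type*} [Group Γ] [Fintype Γ] (a : Γ → R → R)
    (ha : ∀ γ δ r, a γ (a δ r) = a (γ * δ) r) (ha1 : ∀ r, a 1 r = r) (ha0 : ∀ γ, a γ 0 = 0)
    (θ : R) (hθ : ∑ γ, a γ θ = 1) (hJ : ∀ i ∈ J, ∀ j ∈ J, i * j = 0)
    (hJa : ∀ γ, ∀ j ∈ J, a γ j ∈ J)
    (s : Γ → (M ≃+* M)) (hs : ∀ γ (r : R) m, s γ (r • m) = a γ r • s γ m)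
    (hsc : ∀ γ m, Coalgebra.counit (R := R) (s γ m) = a γ (Coalgebra.counit (R := R) m))
    (S S' : Γ → M ⊗[R] M →+ M ⊗[R] M) (hS : ∀ γ x y, S γ (x ⊗ₜ y) = s γ x ⊗ₜ s γ y)
    (hS' : ∀ γ x y, S' γ (x ⊗ₜ y) = (s γ).symm x ⊗ₜ (s γ).symm y)
    (hSc : ∀ γ m, Coalgebra.comul (R := R) (s γ m) = S γ (Coalgebra.comul (R := R) m))
    (α : Γ → (M ≃ₐc[R] M))
    (h : ∀ γ δ m, α γ (s γ (α δ (s δ m))) - α (γ * δ) (s (γ * δ) m) ∈ J • (⊤ : Submodule R M)) :
    ∃ β : Γ → (M ≃ₐc[R] M), (∀ γ m, β γ m - α γ m ∈ J • (⊤ : Submodule R M)) ∧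
      ∀ γ δ m, β γ (s γ (β δ (s δ m))) = β (γ * δ) (s (γ * δ) m) := by
  let u : Γ → (AddMonoid.End M)ˣ := fun γ =>
    { val := ((α γ : M ≃ₐ[R] M).toRingEquiv.toAddEquiv.toAddMonoidHom).comp
        ((s γ).toAddEquiv.toAddMonoidHom)
      inv := ((s γ).symm.toAddEquiv.toAddMonoidHom).comp
        ((α γ : M ≃ₐ[R] M).symm.toRingEquiv.toAddEquiv.toAddMonoidHom)
      val_inv := by
        ext m
        change (α γ : M ≃ₐ[R] M) (s γ ((s γ).symm ((α γ : M ≃ₐ[R] M).symm m))) = m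
        rw [RingEquiv.apply_symm_apply, AlgEquiv.apply_symm_apply]
      inv_val := by
        ext m
        change (s γ).symm ((α γ : M ≃ₐ[R] M).symm ((α γ : M ≃ₐ[R] M) (s γ m))) = m
        rw [AlgEquiv.symm_apply_apply, RingEquiv.symm_apply_apply] }
  have hu : ∀ γ m, (u γ : AddMonoid.End M) m = α γ (s γ m) := fun γ m => rfl
  have hui : ∀ γ m, (↑(u γ)⁻¹ : AddMonoid.End M) m = (s γ).symm ((α γ : M ≃ₐ[R] M).symm m) :=
    fun γ m => rfl
  have huw : ∀ γ m, (u γ : AddMonoid.End M) ((↑(u γ)⁻¹ : AddMonoid.End M) m) = m := fun γ m =>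
    congrArg (fun k : AddMonoid.End M => k m) (u γ).mul_inv
  have hwu : ∀ γ m, (↑(u γ)⁻¹ : AddMonoid.End M) ((u γ : AddMonoid.End M) m) = m := fun γ m =>
    congrArg (fun k : AddMonoid.End M => k m) (u γ).inv_mul
  have hus : ∀ γ (r : R) m, (u γ : AddMonoid.End M) (r • m) = a γ r • (u γ : AddMonoid.End M) m := by
    intro γ r m
    rw [hu, hu, hs]
    exact map_smul (α γ : M ≃ₐ[R] M) _ _
  have hum : ∀ γ x y, (u γ : AddMonoid.End M) (x * y) =
      (u γ : AddMonoid.End M) x * (u γ : AddMonoid.End M) y := by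
    intro γ x y
    simp only [hu, map_mul]
  have huc : ∀ γ m, Coalgebra.counit (R := R) ((u γ : AddMonoid.End M) m) =
      a γ (Coalgebra.counit (R := R) m) := by
    intro γ m
    rw [hu, CoalgHomClass.counit_comp_apply, hsc]
  let F : Γ → M ⊗[R] M →+ M ⊗[R] M := fun γ =>
    ((Algebra.TensorProduct.map ((α γ : M ≃ₐ[R] M) : M →ₐ[R] M)
      ((α γ : M ≃ₐ[R] M) : M →ₐ[R] M)).toRingHom.toAddMonoidHom).comp (S γ)
  let F' : Γ → M ⊗[R] M →+ M ⊗[R] M := fun γ =>
    (S' γ).comp ((Algebra.TensorProduct.map ((α γ : M ≃ₐ[R] M).symm : M →ₐ[R] M)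
      ((α γ : M ≃ₐ[R] M).symm : M →ₐ[R] M)).toRingHom.toAddMonoidHom)
  have hF : ∀ γ x y, F γ (x ⊗ₜ y) = (u γ : AddMonoid.End M) x ⊗ₜ (u γ : AddMonoid.End M) y := by
    intro γ x y
    change Algebra.TensorProduct.map _ _ (S γ (x ⊗ₜ y)) = _
    rw [hS, Algebra.TensorProduct.map_tmul]
    rfl
  have hF' : ∀ γ x y, F' γ (x ⊗ₜ y) = (↑(u γ)⁻¹ : AddMonoid.End M) x ⊗ₜ (↑(u γ)⁻¹ : AddMonoid.End M) y := by
    intro γ x y
    change S' γ (Algebra.TensorProduct.map _ _ (x ⊗ₜ y)) = _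
    rw [Algebra.TensorProduct.map_tmul, hS']
    rfl
  have hFc : ∀ γ m, Coalgebra.comul (R := R) ((u γ : AddMonoid.End M) m) =
      F γ (Coalgebra.comul (R := R) m) := by
    intro γ m
    rw [hu, comul_equiv, hSc]
    rfl
  have hFF' : ∀ γ z, F γ (F' γ z) = z := by
    intro γ z
    induction z using TensorProduct.induction_on with
    | zero => simp
    | tmul x y => rw [hF', hF, huw, huw]
    | add x y hx hy => rw [map_add, map_add, hx, hy]
  have hF'F : ∀ γ z, F' γ (F γ z) = z := by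
    intro γ z
    induction z using TensorProduct.induction_on with
    | zero => simp
    | tmul x y => rw [hF, hF', hwu, hwu]
    | add x y hx hy => rw [map_add, map_add, hx, hy]
  have hF'c : ∀ γ m, Coalgebra.comul (R := R) ((↑(u γ)⁻¹ : AddMonoid.End M) m) =
      F' γ (Coalgebra.comul (R := R) m) := by
    intro γ m
    rw [← hF'F γ (Coalgebra.comul (R := R) ((↑(u γ)⁻¹ : AddMonoid.End M) m)), ← hFc, huw]
  have haa : ∀ γ r, a γ (a γ⁻¹ r) = r := fun γ r => by rw [ha, mul_inv_cancel, ha1]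
  have hws : ∀ γ (r : R) m, (↑(u γ)⁻¹ : AddMonoid.End M) (r • m) =
      a γ⁻¹ r • (↑(u γ)⁻¹ : AddMonoid.End M) m := fun γ r m => by
    rw [← hwu γ (a γ⁻¹ r • (↑(u γ)⁻¹ : AddMonoid.End M) m), hus, haa, huw]
  have hwm : ∀ γ x y, (↑(u γ)⁻¹ : AddMonoid.End M) (x * y) =
      (↑(u γ)⁻¹ : AddMonoid.End M) x * (↑(u γ)⁻¹ : AddMonoid.End M) y := fun γ x y => by
    rw [← hwu γ ((↑(u γ)⁻¹ : AddMonoid.End M) x * (↑(u γ)⁻¹ : AddMonoid.End M) y), hum, huw, huw]
  have hwc : ∀ γ m, Coalgebra.counit (R := R) ((↑(u γ)⁻¹ : AddMonoid.End M) m) =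
      a γ⁻¹ (Coalgebra.counit (R := R) m) := by
    intro γ m
    conv_rhs => rw [← huw γ m, huc, ha, inv_mul_cancel, ha1]
  obtain ⟨b, hb, hbu⟩ := CocycleFix.exists_correction a ha (Module.toAddMonoidEnd R M) θ hθ
    (inf (M := M) J) (fun r D hD => smul_mem_inf r D hD)
    (fun D hD D' hD' => mul_eq_zero_inf hJ D hD D' hD') u
    (fun γ r => by
      ext m
      exact hus γ r m)
    (fun γ D hD => conj_mem_inf (a γ) (a γ⁻¹) _ _ (huw γ) (hwu γ) (haa γ) (hJa γ) (hus γ) (hum γ)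
      (ha0 γ) (huc γ) (F γ) (F' γ) (hF γ) (hF' γ) (hFc γ) D hD)
    (fun γ δ => by
      refine sub_one_mem_inf hJ _ ?_ ?_ ?_ ?_ ((F γ).comp ((F δ).comp (F' (γ * δ)))) ?_ ?_
      · intro r m
        change (u γ : AddMonoid.End M) ((u δ : AddMonoid.End M) ((↑(u (γ * δ))⁻¹ : AddMonoid.End M) (r • m))) =
          r • (u γ : AddMonoid.End M) ((u δ : AddMonoid.End M) ((↑(u (γ * δ))⁻¹ : AddMonoid.End M) m))
        rw [hws, hus, hus, ha γ δ, haa]
      · intro m
        have := h γ δ ((↑(u (γ * δ))⁻¹ : AddMonoid.End M) m)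
        rw [← hu δ, ← hu γ, ← hu (γ * δ), huw] at this
        exact this
      · intro x y
        change (u γ : AddMonoid.End M) ((u δ : AddMonoid.End M) ((↑(u (γ * δ))⁻¹ : AddMonoid.End M) (x * y))) = _
        rw [hwm, hum, hum]
        rfl
      · intro m
        change Coalgebra.counit (R := R) ((u γ : AddMonoid.End M) ((u δ : AddMonoid.End M)
          ((↑(u (γ * δ))⁻¹ : AddMonoid.End M) m))) = _
        rw [huc, huc, hwc, ha, haa]
      · intro x y
        change F γ (F δ (F' (γ * δ) (x ⊗ₜ y))) = _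
        rw [hF', hF, hF]
        rfl
      · intro m
        change Coalgebra.comul (R := R) ((u γ : AddMonoid.End M) ((u δ : AddMonoid.End M)
          ((↑(u (γ * δ))⁻¹ : AddMonoid.End M) m))) = F γ (F δ (F' (γ * δ) _))
        rw [hFc, hFc, hF'c])
  choose ψ hψ using fun γ => exists_equiv hJ (b γ) (hb γ)
  refine ⟨fun γ => (α γ).trans (ψ γ), fun γ m => ?_, fun γ δ m => ?_⟩
  · change ψ γ (α γ m) - α γ m ∈ _
    rw [hψ, sub_sub_cancel_left]
    exact Submodule.neg_mem _ ((hb γ).2.1 _)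
  · change ψ γ (α γ (s γ (ψ δ (α δ (s δ m))))) = ψ (γ * δ) (α (γ * δ) (s (γ * δ) m))
    rw [hψ, hψ, hψ]
    exact congrArg (fun k : AddMonoid.End M => k m) (hbu γ δ)

end Groth.Agent.Sga3B.Hens.InfAct
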