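import Groth.Agent.Books.AffBridge
import Groth.Agent.Ega43.FPOfComp
import Mathlib.AlgebraicGeometry.Morphisms.Smooth
import Mathlib.AlgebraicGeometry.Morphisms.Separated
import Mathlib.AlgebraicGeometry.Morphisms.ClosedImmersion

/-!
# Points of schemes over `Spec A` with values in `A`-algebras: charts, equality ideals, lifting
-/

set_option autoImplicit false

universe u

open CategoryTheory MonoidalCategory CartesianMonoidalCategory AlgebraicGeometry Limits

namespace Groth.Agent.Sga3B.Hens.PtScheme

open Groth.Agent.Books.AffBridge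

variable {A : Type u} [CommRing A]

/-- Affine charts. -/
theorem exists_chart (X : Over (Spec (CommRingCat.of A))) (x : X.left) :
    ∃ (E : Type u) (_ : CommRing E) (_ : Algebra A E) (j : SpecOver A E ⟶ X),
      IsOpenImmersion j.left ∧ x ∈ Set.range j.left := by
  obtain ⟨R, j, hj, hx, -⟩ := Scheme.exists_affine_mem_range_and_range_subset (X := X.left) (x := x)
    (U := ⊤) trivial
  let φ : CommRingCat.of A ⟶ R := Spec.preimage (j ≫ X.hom)
  letI : Algebra A R := φ.hom.toAlgebra
  have hφ : Spec.map φ = j ≫ X.hom := Spec.map_preimage _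
  exact ⟨R, inferInstance, inferInstance, Over.homMk j hφ.symm, hj, hx⟩

/-- Lifting through an open immersion can be checked after a surjective morphism. -/
theorem exists_lift {X : Over (Spec (CommRingCat.of A))} {E R R' : Type u} [CommRing E] [Algebra A E]
    [CommRing R] [Algebra A R] [CommRing R'] [Algebra A R'] (j : SpecOver A E ⟶ X)
    [IsOpenImmersion j.left] (φ : R →ₐ[A] R') (hφ : Function.Surjective (specMap A φ).left)
    (x : SpecOver A R ⟶ X) (e : E →ₐ[A] R') (h : specMap A φ ≫ x = specMap A e ≫ j) :
    ∃ e' : E →ₐ[A] R, specMap A e' ≫ j = x ∧ φ.comp e' = e := by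
  have hr : Set.range x.left ⊆ Set.range j.left := by
    rintro _ ⟨z, rfl⟩
    obtain ⟨w, rfl⟩ := hφ z
    refine ⟨(specMap A e).left w, ?_⟩
    rw [← Scheme.Hom.comp_apply, ← Scheme.Hom.comp_apply, ← Over.comp_left, ← Over.comp_left, h]
  let l := IsOpenImmersion.lift j.left x.left hr
  have hl : l ≫ j.left = x.left := IsOpenImmersion.lift_fac _ _ _
  let l' : SpecOver A R ⟶ SpecOver A E := Over.homMk l (by
    rw [← Over.w j, ← Category.assoc, hl, Over.w x])
  have hl' : l' ≫ j = x := by ext1; exact hl
  have hmono : Mono j := Over.mono_of_mono_left j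
  refine ⟨specPreimage A l', by rw [specMap_specPreimage, hl'], ?_⟩
  apply specMap_injective A
  rw [← cancel_mono j, ← h, specMap_comp, Category.assoc, specMap_specPreimage, hl']

theorem eq_of_comp_eq {X : Over (Spec (CommRingCat.of A))} {E R : Type u} [CommRing E] [Algebra A E]
    [CommRing R] [Algebra A R] (j : SpecOver A E ⟶ X) [IsOpenImmersion j.left] (e e' : E →ₐ[A] R)
    (h : specMap A e ≫ j = specMap A e' ≫ j) : e = e' := by
  have hmono : Mono j := Over.mono_of_mono_left j
  exact specMap_injective A ((cancel_mono j).mp h)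

set_option backward.isDefEq.respectTransparency false in
/-- The locus where two points of a separated scheme locally of finite type agree. -/
theorem exists_eqIdeal {X : Over (Spec (CommRingCat.of A))} [IsSeparated X.hom]
    [LocallyOfFiniteType X.hom] {R : Type u} [CommRing R] [Algebra A R] (x y : SpecOver A R ⟶ X) :
    ∃ a : Ideal R, a.FG ∧ ∀ (R' : Type u) [CommRing R'] [Algebra A R'] (φ : R →ₐ[A] R'),
      specMap A φ ≫ x = specMap A φ ≫ y ↔ ∀ z ∈ a, φ z = 0 := by
  have h1 : IsClosedImmersion (equalizer.ι x y).left := inferInstance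
  have h2 : LocallyOfFinitePresentation (equalizer.ι x y).left := by
    refine MorphismProperty.of_isPullback
      ((Limits.isPullback_equalizer_prod x y).map (Over.forget _)).flip ?_
    rw [← MorphismProperty.cancel_right_of_respectsIso @LocallyOfFinitePresentation _
      (Over.prodLeftIsoPullback X X).hom]
    have h3 : LocallyOfFinitePresentation (pullback.diagonal X.hom) := by
      have : LocallyOfFinitePresentation (pullback.diagonal X.hom ≫ pullback.fst X.hom X.hom) := by
        rw [pullback.diagonal_fst]
        infer_instance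
      exact Ega43.FPOfComp.locallyOfFinitePresentation_of_comp _ (pullback.fst X.hom X.hom)
    convert! h3
    ext1 <;> simp [← Over.comp_left]
  obtain ⟨a, e, he⟩ := IsClosedImmersion.Spec_iff.mp h1
  have hfp : LocallyOfFinitePresentation (Spec.map (CommRingCat.ofHom (Ideal.Quotient.mk a))) := by
    have : Spec.map (CommRingCat.ofHom (Ideal.Quotient.mk a)) = e.inv ≫ (equalizer.ι x y).left := by
      rw [he, Iso.inv_hom_id_assoc]
    rw [this]
    infer_instance
  have hfp' : (Ideal.Quotient.mk a).FinitePresentation := by
    rwa [HasRingHomProperty.Spec_iff (P := @LocallyOfFinitePresentation)] at hfp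
  refine ⟨a, ?_, ?_⟩
  · letI := (Ideal.Quotient.mk a).toAlgebra
    have h4 : Algebra.FinitePresentation R (R ⧸ a) := hfp'
    have h5 := Algebra.FinitePresentation.ker_fG_of_surjective (Algebra.ofId R (R ⧸ a))
      (fun z => by
        obtain ⟨r, rfl⟩ := Ideal.Quotient.mk_surjective z
        exact ⟨r, rfl⟩)
    have h6 : RingHom.ker (Algebra.ofId R (R ⧸ a)).toRingHom = a := by
      ext z
      rw [RingHom.mem_ker]
      exact Ideal.Quotient.eq_zero_iff_mem
    rwa [h6] at h5
  · intro R' _ _ φ
    constructor
    · intro h z hz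
      let l := equalizer.lift (specMap A φ) h
      have hl : l ≫ equalizer.ι x y = specMap A φ := equalizer.lift_ι _ _
      have h2 : (specMap A φ).left =
          (l.left ≫ e.hom) ≫ Spec.map (CommRingCat.ofHom (Ideal.Quotient.mk a)) := by
        rw [← hl, Over.comp_left, he, Category.assoc]
      have h3 : Spec.map (CommRingCat.ofHom φ.toRingHom) =
          Spec.map (CommRingCat.ofHom (Ideal.Quotient.mk a) ≫ Spec.preimage (l.left ≫ e.hom)) := by
        rw [Spec.map_comp, Spec.map_preimage]
        exact h2
      have h4 := Spec.map_injective h3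
      have h5 : φ z = (Spec.preimage (l.left ≫ e.hom)).hom (Ideal.Quotient.mk a z) :=
        congr($h4 z)
      rw [h5, Ideal.Quotient.eq_zero_iff_mem.mpr hz, map_zero]
    · intro h
      have h7 : specMap A (Ideal.Quotient.mkₐ A a) ≫ x = specMap A (Ideal.Quotient.mkₐ A a) ≫ y := by
        have h8 : (specMap A (Ideal.Quotient.mkₐ A a)).left = e.inv ≫ (equalizer.ι x y).left := by
          rw [he, Iso.inv_hom_id_assoc]; rfl
        ext1
        rw [Over.comp_left, Over.comp_left, h8, Category.assoc, Category.assoc, ← Over.comp_left,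
          ← Over.comp_left, equalizer.condition]
      have h9 : φ = (Ideal.Quotient.liftₐ a φ h).comp (Ideal.Quotient.mkₐ A a) := by
        ext z; rfl
      rw [h9, specMap_comp, Category.assoc, Category.assoc, h7]

end Groth.Agent.Sga3B.Hens.PtScheme
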