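import Groth.Agent.Sga3B.Hens.GalBC
import Groth.Agent.Sga3B.Hens.PtScheme
import Groth.Agent.Sga3B.Hens.InfAct

/-!
# Cocycles of bialgebra automorphisms and points of the automorphism scheme
-/

set_option autoImplicit false

universe u

open CategoryTheory MonoidalCategory CartesianMonoidalCategory AlgebraicGeometry Limits
open scoped TensorProduct

namespace Groth.Agent.Sga3B.Hens.CocDefs

open Groth.Agent.Books.AffBridge GalDesc

section algebra

variable {A A' C : Type u} [CommRing A] [CommRing A'] [Algebra A A'] [CommRing C] [HopfAlgebra A C]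

section bc

variable {R R' R'' : Type u} [CommRing R] [Algebra A R] [CommRing R'] [Algebra A R']
  [CommRing R''] [Algebra A R'']

variable (C) in
/-- base change map `R ⊗ C → R' ⊗ C`. -/
noncomputable abbrev bcM (φ : R →ₐ[A] R') : R ⊗[A] C →ₐ[A] R' ⊗[A] C :=
  Algebra.TensorProduct.map φ (AlgHom.id A C)

lemma bcM_comp (φ : R →ₐ[A] R') (ψ : R' →ₐ[A] R'') (z : R ⊗[A] C) :
    bcM C (ψ.comp φ) z = bcM C ψ (bcM C φ z) := by
  induction z using TensorProduct.induction_on with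
  | zero => simp
  | tmul r c => simp
  | add x y hx hy => simp only [map_add, hx, hy]

lemma bcM_smul (φ : R →ₐ[A] R') (r : R) (z : R ⊗[A] C) :
    bcM C φ (r • z) = φ r • bcM C φ z := by
  induction z using TensorProduct.induction_on with
  | zero => simp
  | tmul s c => simp [TensorProduct.smul_tmul']
  | add x y hx hy => simp only [map_add, smul_add, hx, hy]

/-- `α'` is the base change of `α` along `φ`. -/
def IsBC (φ : R →ₐ[A] R') (α : R ⊗[A] C ≃ₐc[R] R ⊗[A] C) (α' : R' ⊗[A] C ≃ₐc[R'] R' ⊗[A] C) :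
    Prop := ∀ z, α' (bcM C φ z) = bcM C φ (α z)

lemma ext_of_bcM {N : Type*} [AddCommGroup N] [Module R' N] (φ : R →ₐ[A] R')
    (f f' : R' ⊗[A] C →ₗ[R'] N) (h : ∀ z, f (bcM C φ z) = f' (bcM C φ z)) : f = f' := by
  refine LinearMap.ext fun z => ?_
  induction z using TensorProduct.induction_on with
  | zero => simp
  | tmul r c =>
    have h1 : r ⊗ₜ[A] c = r • bcM C φ (1 ⊗ₜ c) := by
      simp [TensorProduct.smul_tmul']
    rw [h1, map_smul, map_smul, h]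
  | add x y hx hy => simp only [map_add, hx, hy]

lemma IsBC.unique {φ : R →ₐ[A] R'} {α : R ⊗[A] C ≃ₐc[R] R ⊗[A] C}
    {α' α'' : R' ⊗[A] C ≃ₐc[R'] R' ⊗[A] C} (h : IsBC φ α α') (h' : IsBC φ α α'') : α' = α'' := by
  have : ((α' : R' ⊗[A] C ≃ₐ[R'] R' ⊗[A] C).toLinearMap) = (α'' : R' ⊗[A] C ≃ₐ[R'] R' ⊗[A] C).toLinearMap :=
    ext_of_bcM φ _ _ fun z => (h z).trans (h' z).symm
  ext z
  exact congr($this z)

lemma IsBC.trans {φ : R →ₐ[A] R'} {α β : R ⊗[A] C ≃ₐc[R] R ⊗[A] C}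
    {α' β' : R' ⊗[A] C ≃ₐc[R'] R' ⊗[A] C} (h : IsBC φ α α') (h' : IsBC φ β β') :
    IsBC φ (α.trans β) (α'.trans β') := fun z => by
  change β' (α' _) = bcM C φ (β (α z))
  rw [h, h']

end bc

variable {Γ : Type u} [Group Γ] [Fintype Γ] (g : GalData Γ A A')

variable (A' C) in
/-- base change `B ⊗ A' → B₁ ⊗ A'` -/
noncomputable abbrev bcR {B B₁ : Type u} [CommRing B] [Algebra A B] [CommRing B₁] [Algebra A B₁]
    (φ : B →ₐ[A] B₁) : B ⊗[A] A' →ₐ[A] B₁ ⊗[A] A' :=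
  Algebra.TensorProduct.map φ (AlgHom.id A A')

variable (B : Type u) [CommRing B] [Algebra A B]

/-- the action of `Γ` on `B ⊗ A'` -/
noncomputable abbrev sR (γ : Γ) : B ⊗[A] A' →ₐ[A] B ⊗[A] A' :=
  (((g.baseChange B).σ γ : B ⊗[A] A' →ₐ[B] B ⊗[A] A')).restrictScalars A

@[simp] lemma sR_tmul (γ : Γ) (b : B) (a : A') : sR g B γ (b ⊗ₜ a) = b ⊗ₜ g.σ γ a :=
  g.baseChange_σ_tmul B γ b a

lemma sR_sR (γ δ : Γ) (r : B ⊗[A] A') : sR g B γ (sR g B δ r) = sR g B (γ * δ) r :=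
  (g.baseChange B).σ_σ γ δ r

lemma sR_one (r : B ⊗[A] A') : sR g B 1 r = r := by
  change (g.baseChange B).σ 1 r = r
  rw [map_one]; rfl

lemma bcR_sR {B₁ : Type u} [CommRing B₁] [Algebra A B₁] (φ : B →ₐ[A] B₁) (γ : Γ) (r : B ⊗[A] A') :
    bcR A' φ (sR g B γ r) = sR g B₁ γ (bcR A' φ r) := by
  induction r using TensorProduct.induction_on with
  | zero => simp
  | tmul r c => simp
  | add x y hx hy => simp only [map_add, hx, hy]

variable (C) in
/-- the semilinear action on `(B ⊗ A') ⊗ C`. -/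
noncomputable def sM (γ : Γ) : (B ⊗[A] A') ⊗[A] C ≃+* (B ⊗[A] A') ⊗[A] C :=
  (Algebra.TensorProduct.congr (((g.baseChange B).σ γ).restrictScalars A)
    (AlgEquiv.refl : C ≃ₐ[A] C)).toRingEquiv

lemma sM_apply (γ : Γ) (z : (B ⊗[A] A') ⊗[A] C) : sM C g B γ z = bcM C (sR g B γ) z := by
  induction z using TensorProduct.induction_on with
  | zero => simp
  | tmul r c => rfl
  | add x y hx hy => simp only [map_add, hx, hy]

lemma sM_sM (γ δ : Γ) (z : (B ⊗[A] A') ⊗[A] C) :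
    sM C g B γ (sM C g B δ z) = sM C g B (γ * δ) z := by
  rw [sM_apply, sM_apply, sM_apply, ← bcM_comp]
  have : (sR g B γ).comp (sR g B δ) = sR g B (γ * δ) := AlgHom.ext (sR_sR g B γ δ)
  rw [this]

lemma sM_smul (γ : Γ) (r : B ⊗[A] A') (z : (B ⊗[A] A') ⊗[A] C) :
    sM C g B γ (r • z) = sR g B γ r • sM C g B γ z := by
  rw [sM_apply, sM_apply, bcM_smul]

lemma bcM_sM {B₁ : Type u} [CommRing B₁] [Algebra A B₁] (φ : B →ₐ[A] B₁) (γ : Γ)
    (z : (B ⊗[A] A') ⊗[A] C) : bcM C (bcR A' φ) (sM C g B γ z) = sM C g B₁ γ (bcM C (bcR A' φ) z) := by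
  rw [sM_apply, sM_apply, ← bcM_comp, ← bcM_comp]
  have : (bcR A' φ).comp (sR g B γ) = (sR g B₁ γ).comp (bcR A' φ) := AlgHom.ext (bcR_sR g B φ γ)
  rw [this]

/-- Cocycle condition, in the form of a semilinear action. -/
def IsCoc (α : Γ → ((B ⊗[A] A') ⊗[A] C ≃ₐc[B ⊗[A] A'] (B ⊗[A] A') ⊗[A] C)) : Prop :=
  ∀ γ δ z, α γ (sM C g B γ (α δ (sM C g B δ z))) = α (γ * δ) (sM C g B (γ * δ) z)

end algebra

end Groth.Agent.Sga3B.Hens.CocDefs
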