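import Groth.Agent.Sga3B.Hens.CocDefs
import Groth.Agent.S0536
import Mathlib.RingTheory.Henselian

/-!
# Lifting cocycles of bialgebra automorphisms over a henselian local ring
-/

set_option autoImplicit false

universe u

open CategoryTheory MonoidalCategory CartesianMonoidalCategory AlgebraicGeometry Limits
open scoped TensorProduct

namespace Groth.Agent.Sga3B.Hens.CocHens

open Groth.Agent.Books.AffBridge GalDesc CocDefs

section alg

variable {A A' C : Type u} [CommRing A] [CommRing A'] [Algebra A A'] [CommRing C] [HopfAlgebra A C]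
  {Γ : Type u} [Group Γ] [Fintype Γ] (g : GalData Γ A A')

/-- Cocycles are stable under base change. -/
theorem IsCoc.of_bc {B B₁ : Type u} [CommRing B] [Algebra A B] [CommRing B₁] [Algebra A B₁]
    (φ : B →ₐ[A] B₁)
    {α : Γ → ((B ⊗[A] A') ⊗[A] C ≃ₐc[B ⊗[A] A'] (B ⊗[A] A') ⊗[A] C)}
    {α₁ : Γ → ((B₁ ⊗[A] A') ⊗[A] C ≃ₐc[B₁ ⊗[A] A'] (B₁ ⊗[A] A') ⊗[A] C)}
    (hα : ∀ γ, IsBC (bcR A' φ) (α γ) (α₁ γ)) (h : IsCoc g B α) : IsCoc g B₁ α₁ := by
  intro γ δ z
  have hbc : ∀ w, α₁ γ (sM C g B₁ γ (α₁ δ (sM C g B₁ δ (bcM C (bcR A' φ) w)))) =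
      α₁ (γ * δ) (sM C g B₁ (γ * δ) (bcM C (bcR A' φ) w)) := by
    intro w
    rw [← bcM_sM, ← bcM_sM, hα, hα, ← bcM_sM, hα, h]
  induction z using TensorProduct.induction_on with
  | zero => simp only [map_zero]
  | add x y hx hy => simp only [map_add, hx, hy]
  | tmul r c =>
    have h1 : r ⊗ₜ[A] c = r • bcM C (bcR A' φ) (1 ⊗ₜ c) := by
      simp [TensorProduct.smul_tmul']
    have h2 := hbc (1 ⊗ₜ c)
    calc _ = α₁ γ (sM C g B₁ γ (α₁ δ (sR g B₁ δ r •
            sM C g B₁ δ (bcM C (bcR A' φ) (1 ⊗ₜ c))))) := by rw [h1, sM_smul]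
      _ = α₁ γ (sM C g B₁ γ (sR g B₁ δ r • α₁ δ (sM C g B₁ δ (bcM C (bcR A' φ) (1 ⊗ₜ c))))) := by
        rw [map_smul (α₁ δ)]
      _ = sR g B₁ (γ * δ) r • α₁ γ (sM C g B₁ γ (α₁ δ (sM C g B₁ δ
            (bcM C (bcR A' φ) (1 ⊗ₜ c))))) := by
        rw [sM_smul, map_smul (α₁ γ), sR_sR]
      _ = _ := by rw [h2, h1, sM_smul, map_smul (α₁ (γ * δ))]

end alg

/-- Hensel. -/
theorem exists_algHom_lift {A : Type u} [CommRing A] [HenselianLocalRing A] (Q : Type u) [CommRing Q]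
    [Algebra A Q] [Algebra.Smooth A Q] (q : Q →ₐ[A] IsLocalRing.ResidueField A) :
    ∃ q' : Q →ₐ[A] A, (Algebra.ofId A (IsLocalRing.ResidueField A)).comp q' = q := by
  obtain ⟨τ, hτ⟩ := Groth.Agent.S0536.result A Q A (IsLocalRing.maximalIdeal A) q
  exact ⟨τ, hτ⟩

section hens

variable {A A' C : Type u} [CommRing A] [CommRing A'] [Algebra A A'] [CommRing C] [HopfAlgebra A C]
  {Γ : Type u} [Group Γ] [Fintype Γ] (g : GalData Γ A A')
  (𝒢 : Over (Spec (CommRingCat.of A)))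
  (pt : ∀ (R : Type u) [CommRing R] [Algebra A R], (SpecOver A R ⟶ 𝒢) ≃ (R ⊗[A] C ≃ₐc[R] R ⊗[A] C))
  (hpt : ∀ (R R' : Type u) [CommRing R] [Algebra A R] [CommRing R'] [Algebra A R'] (φ : R →ₐ[A] R')
    (x : SpecOver A R ⟶ 𝒢) (z : R ⊗[A] C), pt R' (specMap A φ ≫ x) (bcM C φ z) = bcM C φ (pt R x z))

/-- Charts around a point with values in a field. -/
theorem exists_charts' {A : Type u} [CommRing A] (𝒢 : Over (Spec (CommRingCat.of A)))
    [Smooth 𝒢.hom] {K : Type u} [CommRing K] (hK : IsField K) [Algebra A K] (x : SpecOver A K ⟶ 𝒢) :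
    ∃ (E : Type u) (_ : CommRing E) (_ : Algebra A E) (_ : Algebra.Smooth A E)
      (j : SpecOver A E ⟶ 𝒢) (_ : IsOpenImmersion j.left) (e : E →ₐ[A] K), specMap A e ≫ j = x := by
  have hsub : Subsingleton (PrimeSpectrum K) := by
    let _ := hK.toField
    infer_instance
  have hne : Nonempty (PrimeSpectrum K) := by
    let _ := hK.toField
    infer_instance
  obtain ⟨p⟩ := hne
  have hsub' : Subsingleton ↥(Spec (CommRingCat.of K)) := hsub
  let p' : ↥(Spec (CommRingCat.of K)) := p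
  obtain ⟨E, _, _, j, hj, hx⟩ := PtScheme.exists_chart 𝒢 (x.left p')
  have hsm : Smooth (SpecOver A E).hom := by
    have h1 : j.left ≫ 𝒢.hom = (SpecOver A E).hom := Over.w j
    rw [← h1]
    infer_instance
  have hsm' : (algebraMap A E).Smooth := by
    have h2 : Smooth (Spec.map (CommRingCat.ofHom (algebraMap A E))) := hsm
    rwa [HasRingHomProperty.Spec_iff (P := @Smooth)] at h2
  have hsm'' : Algebra.Smooth A E := by
    rw [RingHom.smooth_algebraMap] at hsm'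
    exact hsm'
  have hr : Set.range x.left ⊆ Set.range j.left := by
    rintro _ ⟨z, rfl⟩
    have hz : z = p' := hsub'.elim z p'
    rwa [hz]
  let l := IsOpenImmersion.lift j.left x.left hr
  have hl : l ≫ j.left = x.left := IsOpenImmersion.lift_fac _ _ _
  let l' : SpecOver A K ⟶ SpecOver A E := Over.homMk l (by
    rw [← Over.w j, ← Category.assoc, hl, Over.w x])
  have hl' : l' ≫ j = x := by ext1; exact hl
  exact ⟨E, inferInstance, inferInstance, hsm'', j, hj, specPreimage A l', by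
    rw [specMap_specPreimage, hl']⟩

theorem exists_charts {A : Type u} [CommRing A] (𝒢 : Over (Spec (CommRingCat.of A)))
    [Smooth 𝒢.hom] {K : Type u} [Field K] [Algebra A K] (x : SpecOver A K ⟶ 𝒢) :
    ∃ (E : Type u) (_ : CommRing E) (_ : Algebra A E) (_ : Algebra.Smooth A E)
      (j : SpecOver A E ⟶ 𝒢) (_ : IsOpenImmersion j.left) (e : E →ₐ[A] K), specMap A e ≫ j = x :=
  exists_charts' 𝒢 (Field.toIsField K) x

include hpt in
/-- Lifting of cocycles; `hsm` is the conclusion of `exists_smooth`. -/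
theorem exists_lift_cocycle' [HenselianLocalRing A] [Smooth 𝒢.hom]
    (hsm : ∀ (E : Γ → Type u) [∀ γ, CommRing (E γ)] [∀ γ, Algebra A (E γ)]
      [∀ γ, Algebra.Smooth A (E γ)] (j : ∀ γ, SpecOver A (E γ) ⟶ 𝒢)
      [∀ γ, IsOpenImmersion (j γ).left],
      ∃ (Q : Type u) (_ : CommRing Q) (_ : Algebra A Q) (_ : Algebra.Smooth A Q)
        (ev : ∀ γ, E γ →ₐ[A] Q ⊗[A] A'),
        IsCoc g Q (fun γ => pt _ (specMap A (ev γ) ≫ j γ)) ∧
        ∀ (B : Type u) [CommRing B] [Algebra A B] (e : ∀ γ, E γ →ₐ[A] B ⊗[A] A'),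
          IsCoc g B (fun γ => pt _ (specMap A (e γ) ≫ j γ)) →
          ∃ q : Q →ₐ[A] B, ∀ γ, (bcR A' q).comp (ev γ) = e γ)
    (hf : IsField (IsLocalRing.ResidueField A ⊗[A] A'))
    (α₁ : Γ → ((IsLocalRing.ResidueField A ⊗[A] A') ⊗[A] C ≃ₐc[IsLocalRing.ResidueField A ⊗[A] A']
      (IsLocalRing.ResidueField A ⊗[A] A') ⊗[A] C)) (h : IsCoc g _ α₁) :
    ∃ α : Γ → ((A ⊗[A] A') ⊗[A] C ≃ₐc[A ⊗[A] A'] (A ⊗[A] A') ⊗[A] C),
      (∀ γ, IsBC (bcR A' (Algebra.ofId A (IsLocalRing.ResidueField A))) (α γ) (α₁ γ)) ∧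
        IsCoc g A α := by
  have hch := fun γ => exists_charts' 𝒢 hf ((pt _).symm (α₁ γ))
  choose E i1 i2 i3 j hj e he using hch
  obtain ⟨Q, _, _, hQ, ev, hev, huniv⟩ := hsm E j
  have h1 : (fun γ => pt _ (specMap A (e γ) ≫ j γ)) = α₁ := by
    funext γ
    rw [he, Equiv.apply_symm_apply]
  obtain ⟨q, hq⟩ := huniv (IsLocalRing.ResidueField A) e (by rw [h1]; exact h)
  obtain ⟨q', hq'⟩ := exists_algHom_lift Q q
  refine ⟨fun γ => pt _ (specMap A ((bcR A' q').comp (ev γ)) ≫ j γ), fun γ z => ?_, ?_⟩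
  · have h2 : specMap A (bcR A' (Algebra.ofId A (IsLocalRing.ResidueField A))) ≫
        (specMap A ((bcR A' q').comp (ev γ)) ≫ j γ) = (pt _).symm (α₁ γ) := by
      rw [← he, ← hq γ, ← Category.assoc, ← specMap_comp, ← AlgHom.comp_assoc]
      congr 3
      rw [← hq']
      ext
      · simp
      · simp
    have h3 := hpt _ _ (bcR A' (Algebra.ofId A (IsLocalRing.ResidueField A)))
      (specMap A ((bcR A' q').comp (ev γ)) ≫ j γ) z
    rw [h2, Equiv.apply_symm_apply] at h3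
    exact h3
  · refine IsCoc.of_bc g q' (fun γ z => ?_) hev
    have h3 := hpt _ _ (bcR A' q') (specMap A (ev γ) ≫ j γ) z
    rw [← Category.assoc, ← specMap_comp] at h3
    exact h3

end hens

end Groth.Agent.Sga3B.Hens.CocHens
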