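import Groth.Agent.Sga3B.Hens.CocHens
import Groth.Agent.Sga3B.Hens.CocScheme

/-!
# Lifting cocycles of bialgebra automorphisms over a henselian local ring: final form
-/

set_option autoImplicit false

universe u

open CategoryTheory MonoidalCategory CartesianMonoidalCategory AlgebraicGeometry Limits
open scoped TensorProduct

namespace Groth.Agent.Sga3B.Hens.CocHens2

open Groth.Agent.Books.AffBridge GalDesc CocDefs

variable {A A' C : Type u} [CommRing A] [CommRing A'] [Algebra A A'] [CommRing C] [HopfAlgebra A C]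
  {Γ : Type u} [Group Γ] [Fintype Γ] (g : GalData Γ A A')
  (𝒢 : Over (Spec (CommRingCat.of A)))
  (pt : ∀ (R : Type u) [CommRing R] [Algebra A R], (SpecOver A R ⟶ 𝒢) ≃ (R ⊗[A] C ≃ₐc[R] R ⊗[A] C))
  (hpt : ∀ (R R' : Type u) [CommRing R] [Algebra A R] [CommRing R'] [Algebra A R'] (φ : R →ₐ[A] R')
    (x : SpecOver A R ⟶ 𝒢) (z : R ⊗[A] C), pt R' (specMap A φ ≫ x) (bcM C φ z) = bcM C φ (pt R x z))

include hpt in
theorem exists_lift_cocycle [HenselianLocalRing A] [Module.Finite A A'] [Module.Free A A']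
    [IsSeparated 𝒢.hom] [Smooth 𝒢.hom] (hf : IsField (IsLocalRing.ResidueField A ⊗[A] A'))
    (α₁ : Γ → ((IsLocalRing.ResidueField A ⊗[A] A') ⊗[A] C ≃ₐc[IsLocalRing.ResidueField A ⊗[A] A']
      (IsLocalRing.ResidueField A ⊗[A] A') ⊗[A] C)) (h : IsCoc g _ α₁) :
    ∃ α : Γ → ((A ⊗[A] A') ⊗[A] C ≃ₐc[A ⊗[A] A'] (A ⊗[A] A') ⊗[A] C),
      (∀ γ, IsBC (bcR A' (Algebra.ofId A (IsLocalRing.ResidueField A))) (α γ) (α₁ γ)) ∧
        IsCoc g A α :=
  CocHens.exists_lift_cocycle' g 𝒢 pt hpt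
    (fun E _ _ _ j _ => CocScheme.exists_smooth g pt hpt E j) hf α₁ h

end Groth.Agent.Sga3B.Hens.CocHens2
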