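import Groth.Agent.Sga3B.Hens.CocDefs
import Mathlib.LinearAlgebra.TensorProduct.RightExactness

/-!
# Lifting cocycles of bialgebra automorphisms along square-zero extensions
-/

set_option autoImplicit false

universe u

open scoped TensorProduct

namespace Groth.Agent.Sga3B.Hens.CocLift

open GalDesc CocDefs

variable {A A' C : Type u} [CommRing A] [CommRing A'] [Algebra A A'] [CommRing C] [HopfAlgebra A C]

lemma comul_one_tmul (R : Type u) [CommRing R] [Algebra A R] (c : C) :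
    Coalgebra.comul (R := R) ((1 : R) ⊗ₜ[A] c) =
      Groth.Agent.Sga3A.HopfForm.m2 (R := A) (A := C) (C := C) R
        (Algebra.TensorProduct.includeRight : C →ₐ[A] R ⊗[A] C)
        (Algebra.TensorProduct.includeRight : C →ₐ[A] R ⊗[A] C) (Coalgebra.comul (R := A) c) := by
  rw [TensorProduct.comul_tmul]
  generalize Coalgebra.comul (R := A) c = z
  induction z using TensorProduct.induction_on with
  | zero => simp
  | tmul a c => simp
  | add x y hx hy => simp only [TensorProduct.tmul_add, map_add, hx, hy]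

lemma counit_tmul' (R : Type u) [CommRing R] [Algebra A R] (r : R) (c : C) :
    Coalgebra.counit (R := R) (r ⊗ₜ[A] c) = Coalgebra.counit (R := A) c • r := by
  rw [TensorProduct.counit_tmul]
  simp

variable {Γ : Type u} [Group Γ] [Fintype Γ] (g : GalData Γ A A')
  (B : Type u) [CommRing B] [Algebra A B]

lemma sM_algebraMap (γ : Γ) (r : B ⊗[A] A') :
    sM C g B γ (algebraMap (B ⊗[A] A') ((B ⊗[A] A') ⊗[A] C) r) =
      algebraMap (B ⊗[A] A') ((B ⊗[A] A') ⊗[A] C) (sR g B γ r) := by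
  rw [Algebra.algebraMap_eq_smul_one, sM_smul, map_one, ← Algebra.algebraMap_eq_smul_one]

lemma counit_sM (γ : Γ) (z : (B ⊗[A] A') ⊗[A] C) :
    Coalgebra.counit (R := B ⊗[A] A') (sM C g B γ z) =
      sR g B γ (Coalgebra.counit (R := B ⊗[A] A') z) := by
  rw [sM_apply]
  induction z using TensorProduct.induction_on with
  | zero => simp
  | tmul r c =>
    rw [Algebra.TensorProduct.map_tmul, counit_tmul', counit_tmul', map_smul]
    rfl
  | add x y hx hy => simp only [map_add, hx, hy]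

/-- the action on `M ⊗ M` -/
noncomputable def sM2 (γ : Γ) : ((B ⊗[A] A') ⊗[A] C) ⊗[B ⊗[A] A'] ((B ⊗[A] A') ⊗[A] C) →+*
    ((B ⊗[A] A') ⊗[A] C) ⊗[B ⊗[A] A'] ((B ⊗[A] A') ⊗[A] C) :=
  Algebra.TensorProduct.mapRingHom (sR g B γ : B ⊗[A] A' →+* B ⊗[A] A')
    (sM C g B γ : (B ⊗[A] A') ⊗[A] C →+* (B ⊗[A] A') ⊗[A] C)
    (sM C g B γ : (B ⊗[A] A') ⊗[A] C →+* (B ⊗[A] A') ⊗[A] C)
    (RingHom.ext fun r => sM_algebraMap g B γ r) (RingHom.ext fun r => sM_algebraMap g B γ r)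

lemma sM2_tmul (γ : Γ) (x y : (B ⊗[A] A') ⊗[A] C) :
    sM2 g B γ (x ⊗ₜ y) = sM C g B γ x ⊗ₜ sM C g B γ y :=
  Algebra.TensorProduct.mapRingHom_tmul (HS := RingHom.ext fun r => sM_algebraMap g B γ r)
    (HT := RingHom.ext fun r => sM_algebraMap g B γ r) ..

lemma sM2_smul (γ : Γ) (r : B ⊗[A] A')
    (z : ((B ⊗[A] A') ⊗[A] C) ⊗[B ⊗[A] A'] ((B ⊗[A] A') ⊗[A] C)) :
    sM2 g B γ (r • z) = sR g B γ r • sM2 g B γ z := by
  induction z using TensorProduct.induction_on with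
  | zero => simp
  | tmul x y =>
    rw [TensorProduct.smul_tmul', sM2_tmul, sM2_tmul, sM_smul, TensorProduct.smul_tmul']
  | add x y hx hy => rw [smul_add, map_add, hx, hy, map_add, smul_add]

lemma comul_sM (γ : Γ) (z : (B ⊗[A] A') ⊗[A] C) :
    Coalgebra.comul (R := B ⊗[A] A') (sM C g B γ z) =
      sM2 g B γ (Coalgebra.comul (R := B ⊗[A] A') z) := by
  induction z using TensorProduct.induction_on with
  | zero => simp
  | tmul r c =>
    have h1 : r ⊗ₜ[A] c = r • ((1 : B ⊗[A] A') ⊗ₜ[A] c) := by simp [TensorProduct.smul_tmul']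
    rw [h1, sM_smul, map_smul, map_smul, sM2_smul]
    congr 1
    rw [sM_apply, Algebra.TensorProduct.map_tmul, map_one, AlgHom.id_apply, comul_one_tmul]
    generalize Coalgebra.comul (R := A) c = w
    induction w using TensorProduct.induction_on with
    | zero => simp
    | tmul a b => simp [sM2_tmul, sM_apply]
    | add x y hx hy => rw [map_add, map_add, ← hx, ← hy]
  | add x y hx hy => simp only [map_add, hx, hy]

lemma sM_one (z : (B ⊗[A] A') ⊗[A] C) : sM C g B 1 z = z := by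
  have h := sM_sM g B 1 1 z
  rw [mul_one] at h
  exact (sM C g B 1).injective h

lemma sM_symm (γ : Γ) (z : (B ⊗[A] A') ⊗[A] C) : (sM C g B γ).symm z = sM C g B γ⁻¹ z := by
  rw [RingEquiv.symm_apply_eq, sM_sM, mul_inv_cancel, sM_one]

variable {B}

theorem exists_lift {B₁ : Type u} [CommRing B₁] [Algebra A B₁] (φ : B →ₐ[A] B₁)
    (hφ : Function.Surjective φ) (hI : ∀ i ∈ RingHom.ker φ, ∀ j ∈ RingHom.ker φ, i * j = 0)
    (α : Γ → ((B ⊗[A] A') ⊗[A] C ≃ₐc[B ⊗[A] A'] (B ⊗[A] A') ⊗[A] C))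
    (α₁ : Γ → ((B₁ ⊗[A] A') ⊗[A] C ≃ₐc[B₁ ⊗[A] A'] (B₁ ⊗[A] A') ⊗[A] C))
    (hbc : ∀ γ, IsBC (bcR A' φ) (α γ) (α₁ γ)) (h : IsCoc g B₁ α₁) :
    ∃ β : Γ → ((B ⊗[A] A') ⊗[A] C ≃ₐc[B ⊗[A] A'] (B ⊗[A] A') ⊗[A] C),
      (∀ γ, IsBC (bcR A' φ) (β γ) (α₁ γ)) ∧ IsCoc g B β := by
  have hφR : Function.Surjective (bcR A' φ) :=
    LinearMap.rTensor_surjective (g := φ.toLinearMap) A' hφ
  set J : Ideal (B ⊗[A] A') := RingHom.ker (bcR A' φ) with hJdef
  have hker : ∀ z : (B ⊗[A] A') ⊗[A] C, bcM C (bcR A' φ) z = 0 ↔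
      z ∈ J • (⊤ : Submodule (B ⊗[A] A') ((B ⊗[A] A') ⊗[A] C)) := by
    intro z
    rw [Ideal.smul_top_eq_map, Submodule.restrictScalars_mem]
    have := Algebra.TensorProduct.rTensor_ker (R := A) (C := C) (f := bcR A' φ) hφR
    have h2 : (J.map (algebraMap (B ⊗[A] A') ((B ⊗[A] A') ⊗[A] C))) =
        RingHom.ker (bcM C (bcR A' φ)) := this.symm
    rw [h2, RingHom.mem_ker]
  obtain ⟨β, hβ, hβc⟩ := InfAct.exists_action (R := B ⊗[A] A') (M := (B ⊗[A] A') ⊗[A] C) (J := J)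
    (fun γ r => sR g B γ r) (fun γ δ r => sR_sR g B γ δ r) (fun r => sR_one g B r)
    (fun γ => map_zero _) (g.baseChange B).θ (g.baseChange B).sum_θ
    (by
      have h1 : J = (RingHom.ker φ).map (Algebra.TensorProduct.includeLeft : B →ₐ[A] B ⊗[A] A') :=
        Algebra.TensorProduct.rTensor_ker (R := A) (C := A') (f := φ) hφ
      have h2 : RingHom.ker φ * RingHom.ker φ = ⊥ := by
        rw [eq_bot_iff, Ideal.mul_le]
        intro i hi j hj
        rw [hI i hi j hj]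
        exact Submodule.zero_mem _
      have h3 : J * J = ⊥ := by
        rw [h1, ← Ideal.map_mul, h2, Ideal.map_bot]
      intro i hi j hj
      have := Ideal.mul_mem_mul hi hj
      rwa [h3, Ideal.mem_bot] at this)
    (by
      intro γ j hj
      rw [RingHom.mem_ker] at hj ⊢
      rw [bcR_sR, hj, map_zero])
    (sM C g B) (sM_smul g B) (counit_sM g B)
    (fun γ => (sM2 g B γ).toAddMonoidHom) (fun γ => (sM2 g B γ⁻¹).toAddMonoidHom)
    (fun γ x y => sM2_tmul g B γ x y)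
    (fun γ x y => by
      rw [sM_symm, sM_symm]
      exact sM2_tmul g B γ⁻¹ x y)
    (fun γ m => comul_sM g B γ m) α
    (fun γ δ m => by
      rw [← hker, map_sub, sub_eq_zero]
      rw [← hbc, ← hbc, bcM_sM, bcM_sM, ← hbc, bcM_sM]
      exact h γ δ _)
  refine ⟨β, fun γ z => ?_, hβc⟩
  have := hβ γ z
  rw [← hker, map_sub, sub_eq_zero] at this
  rw [this]
  exact hbc γ z

end Groth.Agent.Sga3B.Hens.CocLift
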