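import Mathlib.Algebra.BigOperators.GroupWithZero.Action
import Mathlib.Algebra.Group.Subgroup.Basic
import Mathlib.Algebra.Group.Submonoid.BigOperators
import Mathlib.Algebra.Ring.Hom.Defs
import Mathlib.Tactic.NoncommRing
import Mathlib.Tactic.LinearCombination

/-!
# Correcting an approximate homomorphism (vanishing of `H²(Γ, -)` for semilinear modules)

`Γ` a finite group acting on a commutative ring `R` with an element of trace one, `E` a ring with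
scalars from `R`, `u : Γ → Eˣ` semilinear and multiplicative up to `1 + K`, `K` an `R`-stable additive
subgroup of square zero which is stable under conjugation by the `u γ`.  Then `u` can be corrected by
elements of `1 + K` to a homomorphism.
-/

set_option autoImplicit false

namespace Groth.Agent.Sga3B.Hens.CocycleFix

variable {Γ E R : Type*} [Group Γ] [Fintype Γ] [Ring E] [CommRing R]

theorem exists_correction (a : Γ → R → R) (ha : ∀ γ δ r, a γ (a δ r) = a (γ * δ) r)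
    (ρ : R →+* E) (θ : R) (hθ : ∑ γ : Γ, a γ θ = 1) (K : AddSubgroup E)
    (hρ : ∀ r, ∀ D ∈ K, ρ r * D ∈ K)
    (hmul : ∀ D ∈ K, ∀ D' ∈ K, D * D' = 0)
    (u : Γ → Eˣ) (hu : ∀ γ r, (u γ : E) * ρ r = ρ (a γ r) * u γ)
    (hconj : ∀ γ, ∀ D ∈ K, (u γ : E) * D * (↑(u γ)⁻¹ : E) ∈ K)
    (hz : ∀ γ δ, (u γ * u δ * (↑(u (γ * δ))⁻¹ : E) : E) - 1 ∈ K) :
    ∃ b : Γ → E, (∀ γ, b γ ∈ K) ∧
      ∀ γ δ, ((1 - b γ) * u γ) * ((1 - b δ) * u δ) = (1 - b (γ * δ)) * (u (γ * δ) : E) := by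
  classical
  set z : Γ → Γ → E := fun γ δ => (u γ * u δ * (↑(u (γ * δ))⁻¹ : E) : E) - 1 with hzdef
  have hzu : ∀ γ δ, (1 + z γ δ) * (u (γ * δ) : E) = u γ * u δ := by
    intro γ δ
    simp only [hzdef, add_sub_cancel]
    rw [mul_assoc, Units.inv_mul, mul_one]
  have hz' : ∀ γ δ, z γ δ ∈ K := hz
  -- cocycle identity
  have hcoc : ∀ γ δ ε, z γ δ + z (γ * δ) ε =
      (u γ : E) * z δ ε * (↑(u γ)⁻¹ : E) + z γ (δ * ε) := by
    intro γ δ ε
    have h1 : (1 + z γ δ) * (1 + z (γ * δ) ε) * (u (γ * δ * ε) : E) = u γ * u δ * u ε := by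
      rw [mul_assoc, hzu, ← mul_assoc, hzu]
    have h2 : (1 + (u γ : E) * z δ ε * (↑(u γ)⁻¹ : E)) * (1 + z γ (δ * ε)) * (u (γ * δ * ε) : E) =
        u γ * u δ * u ε := by
      have : (1 + (u γ : E) * z δ ε * (↑(u γ)⁻¹ : E)) * u γ = u γ * (1 + z δ ε) := by
        rw [add_mul, mul_assoc _ _ (u γ : E), Units.inv_mul, one_mul, mul_add, mul_one, mul_one]
      rw [mul_assoc γ δ ε, mul_assoc _ _ (u (γ * (δ * ε)) : E), hzu, ← mul_assoc, this, mul_assoc,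
        hzu, mul_assoc]
    have h3 : (1 + z γ δ) * (1 + z (γ * δ) ε) =
        (1 + (u γ : E) * z δ ε * (↑(u γ)⁻¹ : E)) * (1 + z γ (δ * ε)) := by
      have := h1.trans h2.symm
      exact (Units.mul_left_inj (u (γ * δ * ε))).mp this
    have e1 := hmul _ (hz' γ δ) _ (hz' (γ * δ) ε)
    have e2 := hmul _ (hconj γ _ (hz' δ ε)) _ (hz' γ (δ * ε))
    have h4 : (1 + z γ δ) * (1 + z (γ * δ) ε) = 1 + (z γ δ + z (γ * δ) ε) + z γ δ * z (γ * δ) ε := by
      noncomm_ring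
    have h5 : (1 + (u γ : E) * z δ ε * (↑(u γ)⁻¹ : E)) * (1 + z γ (δ * ε)) =
        1 + ((u γ : E) * z δ ε * (↑(u γ)⁻¹ : E) + z γ (δ * ε)) +
          ((u γ : E) * z δ ε * (↑(u γ)⁻¹ : E)) * z γ (δ * ε) := by
      noncomm_ring
    rw [h4, h5, e1, e2, add_zero, add_zero] at h3
    exact add_left_cancel h3
  refine ⟨fun γ => ∑ ε, ρ (a (γ * ε) θ) * z γ ε, fun γ => sum_mem fun ε _ => hρ _ _ (hz' _ _), ?_⟩
  intro γ δ
  set b : Γ → E := fun γ => ∑ ε, ρ (a (γ * ε) θ) * z γ ε with hb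
  have hbK : ∀ γ, b γ ∈ K := fun γ => sum_mem fun ε _ => hρ _ _ (hz' _ _)
  -- the coboundary
  have hcob : b γ + (u γ : E) * b δ * (↑(u γ)⁻¹ : E) - b (γ * δ) = z γ δ := by
    have e1 : b γ = ∑ ε, ρ (a (γ * δ * ε) θ) * z γ (δ * ε) := by
      simp only [hb]
      rw [← Equiv.sum_comp (Equiv.mulLeft δ)]
      simp [mul_assoc]
    have e2 : (u γ : E) * b δ * (↑(u γ)⁻¹ : E) =
        ∑ ε, ρ (a (γ * δ * ε) θ) * ((u γ : E) * z δ ε * (↑(u γ)⁻¹ : E)) := by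
      simp only [hb, Finset.mul_sum, Finset.sum_mul]
      refine Finset.sum_congr rfl fun ε _ => ?_
      rw [← mul_assoc, hu, ha, ← mul_assoc γ δ ε]
      simp only [mul_assoc]
    have e3 : b (γ * δ) = ∑ ε, ρ (a (γ * δ * ε) θ) * z (γ * δ) ε := rfl
    rw [e1, e2, e3, ← Finset.sum_add_distrib, ← Finset.sum_sub_distrib]
    have e4 : ∀ ε, ρ (a (γ * δ * ε) θ) * z γ (δ * ε) +
        ρ (a (γ * δ * ε) θ) * ((u γ : E) * z δ ε * (↑(u γ)⁻¹ : E)) -
        ρ (a (γ * δ * ε) θ) * z (γ * δ) ε = ρ (a (γ * δ * ε) θ) * z γ δ := by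
      intro ε
      have h := hcoc γ δ ε
      have : z γ δ = z γ (δ * ε) + (u γ : E) * z δ ε * (↑(u γ)⁻¹ : E) - z (γ * δ) ε := by
        rw [eq_sub_iff_add_eq, h, add_comm]
      rw [this]
      noncomm_ring
    rw [Finset.sum_congr rfl fun ε _ => e4 ε, ← Finset.sum_mul, ← map_sum]
    have : ∑ ε, a (γ * δ * ε) θ = 1 := by
      rw [← hθ, ← Equiv.sum_comp (Equiv.mulLeft (γ * δ)) (fun ε => a ε θ)]
      rfl
    rw [this, map_one, one_mul]
  have h1 : (u γ : E) * ((1 - b δ) * u δ) =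
      (1 - (u γ : E) * b δ * (↑(u γ)⁻¹ : E)) * ((1 + z γ δ) * u (γ * δ)) := by
    rw [hzu]
    have : (1 - (u γ : E) * b δ * (↑(u γ)⁻¹ : E)) * u γ = u γ * (1 - b δ) := by
      rw [sub_mul, mul_assoc _ _ (u γ : E), Units.inv_mul, one_mul, mul_sub, mul_one, mul_one]
    rw [← mul_assoc _ (u γ : E) (u δ : E), this, mul_assoc]
  have e1 := hmul _ (hconj γ _ (hbK δ)) _ (hz' γ δ)
  have e2 := hmul _ (hbK γ) _ (hconj γ _ (hbK δ))
  have e3 := hmul _ (hbK γ) _ (hz' γ δ)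
  calc ((1 - b γ) * u γ) * ((1 - b δ) * u δ)
      = (1 - b γ) * ((1 - (u γ : E) * b δ * (↑(u γ)⁻¹ : E)) * ((1 + z γ δ) * u (γ * δ))) := by
        rw [← h1, mul_assoc]
    _ = (1 - b γ - (u γ : E) * b δ * (↑(u γ)⁻¹ : E) + z γ δ
          + b γ * ((u γ : E) * b δ * (↑(u γ)⁻¹ : E))
          - b γ * z γ δ - (u γ : E) * b δ * (↑(u γ)⁻¹ : E) * z γ δ
          + b γ * ((u γ : E) * b δ * (↑(u γ)⁻¹ : E)) * z γ δ) * u (γ * δ) := by
        noncomm_ring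
    _ = (1 - b (γ * δ)) * (u (γ * δ) : E) := by
        rw [e1, e2, e3]
        congr 1
        rw [zero_mul, ← hcob]
        abel

end Groth.Agent.Sga3B.Hens.CocycleFix
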