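import Groth.Agent.Sga3B.Hens.CocLift

/-!
# Forms attached to cocycles: definition
-/

set_option autoImplicit false

universe u

open scoped TensorProduct

namespace Groth.Agent.Sga3B.Hens.FormDef

open GalDesc CocDefs

variable {A A' C : Type u} [CommRing A] [CommRing A'] [Algebra A A'] [CommRing C] [HopfAlgebra A C]
  {Γ : Type u} [Group Γ] [Fintype Γ] (g : GalData Γ A A')
  (B : Type u) [CommRing B] [Algebra A B]

/-- `ψ` exhibits the Hopf algebra `D` over `B` as the form of `B ⊗ C` attached to the cocycle `α`. -/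
def IsForm {D : Type u} [CommRing D] [HopfAlgebra B D]
    (α : Γ → ((B ⊗[A] A') ⊗[A] C ≃ₐc[B ⊗[A] A'] (B ⊗[A] A') ⊗[A] C))
    (ψ : (B ⊗[A] A') ⊗[B] D ≃ₐc[B ⊗[A] A'] (B ⊗[A] A') ⊗[A] C) : Prop :=
  ∀ γ (d : D), α γ (sM C g B γ (ψ (1 ⊗ₜ d))) = ψ (1 ⊗ₜ d)

end Groth.Agent.Sga3B.Hens.FormDef
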