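import Groth.Agent.Sga3B.Hens.GalHopf

/-!
# Base change of Galois data
-/

set_option autoImplicit false

open TensorProduct

namespace Groth.Agent.Sga3B.Hens.GalDesc

namespace GalData

variable {Γ B R : Type*} [Group Γ] [Fintype Γ] [CommRing B] [CommRing R] [Algebra B R]
  (g : GalData Γ B R)

/-- Base change of Galois data. -/
noncomputable def baseChange (B' : Type*) [CommRing B'] [Algebra B B'] : GalData Γ B' (B' ⊗[B] R) where
  σ :=
    { toFun := fun γ => Algebra.TensorProduct.congr AlgEquiv.refl (g.σ γ)
      map_one' := by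
        ext x
        induction x using TensorProduct.induction_on with
        | zero => simp
        | tmul b r => simp
        | add x y hx hy => simp only [map_add, hx, hy]
      map_mul' := fun γ δ => by
        ext x
        induction x using TensorProduct.induction_on with
        | zero => simp
        | tmul b r => simp
        | add x y hx hy => simp only [map_add, hx, hy] }
  t := (TensorProduct.AlgebraTensorModule.rid B B' B').toLinearMap ∘ₗ g.t.baseChange B'
  ht x := by
    induction x using TensorProduct.induction_on with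
    | zero => simp
    | tmul b r =>
      have h1 : ((TensorProduct.AlgebraTensorModule.rid B B' B').toLinearMap ∘ₗ g.t.baseChange B') (b ⊗ₜ r) =
          g.t r • b := by simp
      have h2 : ∀ γ, (Algebra.TensorProduct.congr (AlgEquiv.refl : B' ≃ₐ[B'] B') (g.σ γ)) (b ⊗ₜ[B] r) =
          b ⊗ₜ g.σ γ r := fun γ => by simp
      rw [h1]
      simp only [MonoidHom.coe_mk, OneHom.coe_mk, h2]
      rw [← TensorProduct.tmul_sum, ← g.ht, Algebra.TensorProduct.algebraMap_apply,
        Algebra.algebraMap_self_apply, Algebra.algebraMap_eq_smul_one, TensorProduct.tmul_smul,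
        TensorProduct.smul_tmul']
    | add x y hx hy => simp only [map_add, hx, hy, Finset.sum_add_distrib]
  θ := 1 ⊗ₜ g.θ
  hθ := by simp [g.hθ]
  m := g.m
  x i := 1 ⊗ₜ g.x i
  y i := 1 ⊗ₜ g.y i
  hxy1 := by
    simp only [Algebra.TensorProduct.tmul_mul_tmul, one_mul, ← TensorProduct.tmul_sum, g.hxy1]
    rfl
  hxy γ hγ := by
    have h2 : ∀ r, (Algebra.TensorProduct.congr (AlgEquiv.refl : B' ≃ₐ[B'] B') (g.σ γ)) ((1 : B') ⊗ₜ[B] r) =
        1 ⊗ₜ g.σ γ r := fun r => by simp
    simp only [MonoidHom.coe_mk, OneHom.coe_mk, h2, Algebra.TensorProduct.tmul_mul_tmul, one_mul,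
      ← TensorProduct.tmul_sum, g.hxy γ hγ, TensorProduct.tmul_zero]

@[simp] lemma baseChange_σ_tmul (B' : Type*) [CommRing B'] [Algebra B B'] (γ : Γ) (b : B') (r : R) :
    (g.baseChange B').σ γ (b ⊗ₜ r) = b ⊗ₜ g.σ γ r := by
  simp [baseChange]

end GalData

end Groth.Agent.Sga3B.Hens.GalDesc
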