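import Groth.Agent.Sga3A.HopfForm
import Mathlib.RingTheory.Flat.FaithfullyFlat.Basic
import Mathlib.Algebra.Module.Projective
import Mathlib.RingTheory.TensorProduct.MonoidAlgebra

/-!
# Galois descent for modules (explicit data)

`GalData Γ B R`: the `B`-algebra `R` is Galois with group `Γ`, in terms of explicit data: the trace
`t : R → B`, an element of trace one and "dual bases" `x, y`.
-/

set_option autoImplicit false

open TensorProduct

namespace Groth.Agent.Sga3B.Hens.GalDesc

/-- Explicit Galois data. -/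
structure GalData (Γ B R : Type*) [Group Γ] [Fintype Γ] [CommRing B] [CommRing R] [Algebra B R] where
  /-- the action -/
  σ : Γ →* (R ≃ₐ[B] R)
  /-- the trace -/
  t : R →ₗ[B] B
  ht : ∀ r, algebraMap B R (t r) = ∑ γ : Γ, σ γ r
  /-- an element of trace one -/
  θ : R
  hθ : t θ = 1
  /-- number of dual basis elements -/
  m : ℕ
  /-- dual bases -/
  x : Fin m → R
  /-- dual bases -/
  y : Fin m → R
  hxy1 : ∑ i, x i * y i = 1
  hxy : ∀ γ : Γ, γ ≠ 1 → ∑ i, x i * σ γ (y i) = 0

namespace GalData

variable {Γ B R : Type*} [Group Γ] [Fintype Γ] [CommRing B] [CommRing R] [Algebra B R]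
  (g : GalData Γ B R)

lemma sum_θ : ∑ γ : Γ, g.σ γ g.θ = 1 := by rw [← g.ht, g.hθ, map_one]

lemma σ_σ (γ δ : Γ) (r : R) : g.σ γ (g.σ δ r) = g.σ (γ * δ) r := by rw [map_mul]; rfl

lemma sum_x (v : Γ → R) : ∑ i, g.x i * ∑ γ, g.σ γ (g.y i) * v γ = v 1 := by
  classical
  simp only [Finset.mul_sum, ← mul_assoc]
  rw [Finset.sum_comm]
  simp only [← Finset.sum_mul]
  rw [Finset.sum_eq_single (1 : Γ)]
  · simp [g.hxy1]
  · intro γ _ hγ
    rw [g.hxy γ hγ, zero_mul]
  · simp

lemma dual (r : R) : ∑ i, g.t (g.y i * r) • g.x i = r := by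
  have := g.sum_x (fun γ => g.σ γ r)
  simp only [map_one] at this
  conv_rhs => rw [show r = (1 : R ≃ₐ[B] R) r from rfl, ← this]
  refine Finset.sum_congr rfl fun i _ => ?_
  rw [Algebra.smul_def, g.ht, mul_comm]
  simp only [map_mul]

lemma t_algebraMap_mul (b : B) (r : R) : g.t (algebraMap B R b * r) = b * g.t r := by
  rw [← Algebra.smul_def, map_smul, smul_eq_mul]

include g in
lemma projective : Module.Projective B R := by
  let f : R →ₗ[B] (Fin g.m → B) := LinearMap.pi fun i => g.t.comp (LinearMap.mulLeft B (g.y i))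
  let h : (Fin g.m → B) →ₗ[B] R := Fintype.linearCombination B g.x
  refine Module.Projective.of_split f h ?_
  ext r
  simp only [f, h, LinearMap.coe_comp, Function.comp_apply, Fintype.linearCombination_apply,
    LinearMap.pi_apply, LinearMap.mulLeft_apply, LinearMap.id_apply]
  exact g.dual r

include g in
lemma finite : Module.Finite B R := by
  classical
  refine ⟨⟨Finset.univ.image g.x, ?_⟩⟩
  rw [eq_top_iff]
  rintro r -
  rw [← g.dual r]
  refine Submodule.sum_mem _ fun i _ => Submodule.smul_mem _ _ (Submodule.subset_span ?_)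
  simp

include g in
lemma faithfullyFlat : Module.FaithfullyFlat B R := by
  have := g.projective
  refine { submodule_ne_top := fun {I} hI h => ?_ }
  have key : ∀ r : R, r ∈ I • (⊤ : Submodule B R) → g.t r ∈ I := by
    intro r hr
    induction hr using Submodule.smul_induction_on' with
    | smul b hb r _ =>
      rw [map_smul]
      exact I.mul_mem_right _ hb
    | add x _ y _ hx hy => rw [map_add]; exact I.add_mem hx hy
  have h1 := key g.θ (by rw [h]; trivial)
  rw [g.hθ] at h1
  exact hI.ne_top ((Ideal.eq_top_iff_one I).mpr h1)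

section module

variable {M : Type*} [AddCommGroup M] [Module R M] [Module B M] [IsScalarTower B R M]
  (v : Γ → M →ₗ[B] M)

/-- invariants -/
def inv : Submodule B M where
  carrier := {m | ∀ γ, v γ m = m}
  add_mem' {a b} ha hb γ := by rw [map_add, ha, hb]
  zero_mem' γ := map_zero _
  smul_mem' c m hm γ := by rw [map_smul, hm]

omit [Group Γ] [Fintype Γ] in
lemma mem_inv {m : M} : m ∈ inv v ↔ ∀ γ, v γ m = m := Iff.rfl

lemma sum_mem_inv (hv : ∀ γ δ m, v γ (v δ m) = v (γ * δ) m) (m : M) : ∑ γ, v γ m ∈ inv v := by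
  intro γ
  rw [map_sum]
  simp only [hv]
  exact Equiv.sum_comp (Equiv.mulLeft γ) (fun δ => v δ m)

variable {v}

lemma smul_eq (g : GalData Γ B R) (hs : ∀ γ (r : R) m, v γ (r • m) = g.σ γ r • v γ m) {m : M}
    (hm : m ∈ inv v) (r : R) :
    ∑ γ, v γ (r • m) = g.t r • m := by
  simp only [hs]
  rw [← IsScalarTower.algebraMap_smul R (g.t r) m, g.ht, Finset.sum_smul]
  exact Finset.sum_congr rfl fun γ _ => by rw [hm γ]

theorem isBaseChange_inv (h1 : ∀ m, v 1 m = m) (hv : ∀ γ δ m, v γ (v δ m) = v (γ * δ) m)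
    (hs : ∀ γ (r : R) m, v γ (r • m) = g.σ γ r • v γ m) : IsBaseChange R (inv v).subtype := by
  classical
  let F : R ⊗[B] inv v →ₗ[R] M := TensorProduct.AlgebraTensorModule.lift
    ((LinearMap.lsmul R M).flip.restrictScalars B ∘ₗ (inv v).subtype).flip
  have hF : ∀ (r : R) (n : inv v), F (r ⊗ₜ n) = r • (n : M) := fun r n => rfl
  let s : M → R ⊗[B] inv v := fun m => ∑ i, g.x i ⊗ₜ ⟨∑ γ, v γ (g.y i • m), sum_mem_inv v hv _⟩
  have hsadd : ∀ m m', s (m + m') = s m + s m' := by
    intro m m'
    simp only [s, ← Finset.sum_add_distrib, ← TensorProduct.tmul_add]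
    refine Finset.sum_congr rfl fun i _ => ?_
    congr 1
    ext
    simp [smul_add, map_add, Finset.sum_add_distrib]
  have hs0 : s 0 = 0 := by
    simp only [s]
    refine Finset.sum_eq_zero fun i _ => ?_
    have : (⟨∑ γ, v γ (g.y i • (0 : M)), sum_mem_inv v hv _⟩ : inv v) = 0 := by
      ext; simp
    rw [this, TensorProduct.tmul_zero]
  have hFs : ∀ m, F (s m) = m := by
    intro m
    simp only [s, map_sum, hF, Finset.smul_sum, hs, smul_smul]
    rw [Finset.sum_comm]
    simp only [← Finset.sum_smul]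
    rw [Finset.sum_eq_single (1 : Γ)]
    · rw [map_one, h1]
      change (∑ i, g.x i * g.y i) • m = m
      rw [g.hxy1, one_smul]
    · intro γ _ hγ
      rw [g.hxy γ hγ, zero_smul]
    · simp
  have hsF : ∀ z, s (F z) = z := by
    intro z
    induction z using TensorProduct.induction_on with
    | zero => rw [map_zero, hs0]
    | add z z' hz hz' => rw [map_add, hsadd, hz, hz']
    | tmul r n =>
      rw [hF]
      simp only [s]
      have : ∀ i, (⟨∑ γ, v γ (g.y i • (r • (n : M))), sum_mem_inv v hv _⟩ : inv v) =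
          g.t (g.y i * r) • n := by
        intro i
        ext
        simp only [smul_smul, Submodule.coe_smul_of_tower]
        exact smul_eq g hs n.2 _
      simp only [this, ← TensorProduct.smul_tmul, ← TensorProduct.sum_tmul, g.dual]
  refine IsBaseChange.of_equiv (LinearEquiv.ofBijective F ⟨Function.LeftInverse.injective hsF,
    fun m => ⟨s m, hFs m⟩⟩) fun n => ?_
  rw [LinearEquiv.ofBijective_apply, hF, one_smul]
  rfl

theorem exists_of_invariant {N : Type*} [AddCommGroup N] [Module B N] (f : N →ₗ[B] M)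
    (hf : IsBaseChange R f) (hs : ∀ γ (r : R) m, v γ (r • m) = g.σ γ r • v γ m)
    (hvf : ∀ γ n, v γ (f n) = f n) (m : M) (hm : ∀ γ, v γ m = m) : ∃ n, f n = m := by
  let T : R ⊗[B] N →ₗ[B] N :=
    (TensorProduct.lid B N).toLinearMap ∘ₗ (g.t ∘ₗ LinearMap.mulLeft B g.θ).rTensor N
  have hT : ∀ z, f (T z) = ∑ γ, v γ (g.θ • hf.equiv z) := by
    intro z
    induction z using TensorProduct.induction_on with
    | zero => simp
    | add z z' hz hz' => simp only [map_add, hz, hz', smul_add, Finset.sum_add_distrib]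
    | tmul r n =>
      have : T (r ⊗ₜ n) = g.t (g.θ * r) • n := by simp [T]
      rw [this, map_smul, IsBaseChange.equiv_tmul]
      simp only [smul_smul]
      exact (smul_eq g hs (fun γ => hvf γ n) _).symm
  refine ⟨T (hf.equiv.symm m), ?_⟩
  rw [hT, LinearEquiv.apply_symm_apply]
  simp only [hs, hm, ← Finset.sum_smul]
  rw [g.sum_θ, one_smul]

end module

end GalData

end Groth.Agent.Sga3B.Hens.GalDesc
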