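import Groth.Agent.Sga3B.Hens.GalDesc

/-!
# Galois descent for commutative Hopf algebras
-/

set_option autoImplicit false

open TensorProduct

namespace Groth.Agent.Sga3B.Hens.GalDesc

open Groth.Agent.Sga3A.HopfForm

namespace GalData

universe u

section fam

variable {B R : Type*} [CommRing B] [CommRing R] [Algebra B R]
  {M D : Type*} [CommRing M] [HopfAlgebra R M] [Algebra B M] [IsScalarTower B R M]
  [CommRing D] [HopfAlgebra B D]

/-- the restriction of a bialgebra map `R ⊗ D → M` to `D`. -/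
noncomputable def res (e : R ⊗[B] D →ₐ[R] M) : D →ₐ[B] M :=
  (e.restrictScalars B).comp (Algebra.TensorProduct.includeRight : D →ₐ[B] R ⊗[B] D)

omit [HopfAlgebra B D] in
lemma res_apply [Algebra B D] (e : R ⊗[B] D →ₐ[R] M) (d : D) :
    ((e.restrictScalars B).comp (Algebra.TensorProduct.includeRight : D →ₐ[B] R ⊗[B] D)) d =
      e (1 ⊗ₜ d) := rfl

lemma comul_res (e : R ⊗[B] D →ₐc[R] M) (d : D) :
    Coalgebra.comul (R := R) (e (1 ⊗ₜ d)) =
      m2 R (res (e : R ⊗[B] D →ₐ[R] M)) (res (e : R ⊗[B] D →ₐ[R] M)) (Coalgebra.comul (R := B) d) := by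
  rw [← CoalgHomClass.map_comp_comul_apply, TensorProduct.comul_tmul]
  generalize Coalgebra.comul (R := B) d = z
  induction z using TensorProduct.induction_on with
  | zero => simp
  | tmul a c => simp [res]
  | add x y hx hy => simp only [TensorProduct.tmul_add, map_add, hx, hy]

omit [Algebra B M] [IsScalarTower B R M] in
lemma counit_res (e : R ⊗[B] D →ₐc[R] M) (d : D) :
    Coalgebra.counit (R := R) (e (1 ⊗ₜ d)) = algebraMap B R (Coalgebra.counit (R := B) d) := by
  rw [CoalgHomClass.counit_comp_apply, TensorProduct.counit_tmul]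
  simp [Algebra.algebraMap_eq_smul_one]

lemma isBaseChange_res (e : R ⊗[B] D ≃ₐc[R] M) :
    IsBaseChange R (res ((e : R ⊗[B] D →ₐc[R] M) : R ⊗[B] D →ₐ[R] M)).toLinearMap := by
  refine IsBaseChange.of_equiv (e : R ⊗[B] D ≃ₐ[R] M).toLinearEquiv fun d => rfl

end fam

section unique

variable {Γ B R : Type*} [Group Γ] [Fintype Γ] [CommRing B] [CommRing R] [Algebra B R]
  (g : GalData Γ B R)
  {M : Type*} [CommRing M] [HopfAlgebra R M] [Algebra B M] [IsScalarTower B R M]
  {D D' : Type*} [CommRing D] [HopfAlgebra B D] [CommRing D'] [HopfAlgebra B D']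

include g in
lemma algebraMap_injective : Function.Injective (algebraMap B R) := by
  intro b b' h
  have h1 := g.t_algebraMap_mul b g.θ
  rw [h, g.t_algebraMap_mul, g.hθ, mul_one, mul_one] at h1
  exact h1.symm

include g in
lemma res_injective (e : R ⊗[B] D ≃ₐc[R] M) :
    Function.Injective (res ((e : R ⊗[B] D →ₐc[R] M) : R ⊗[B] D →ₐ[R] M)) := by
  have := g.faithfullyFlat
  intro d d' h
  have h1 : (1 : R) ⊗ₜ[B] d = 1 ⊗ₜ d' := e.injective h
  exact Module.FaithfullyFlat.tensorProduct_mk_injective (A := B) (B := R) D h1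

include g in
lemma m2_injective (e : R ⊗[B] D ≃ₐc[R] M) :
    Function.Injective (m2 R (res ((e : R ⊗[B] D →ₐc[R] M) : R ⊗[B] D →ₐ[R] M))
      (res ((e : R ⊗[B] D →ₐc[R] M) : R ⊗[B] D →ₐ[R] M))) := by
  have := g.faithfullyFlat
  have hb := isBaseChange_m2 (isBaseChange_res e) (isBaseChange_res e)
  intro d d' h
  apply Module.FaithfullyFlat.tensorProduct_mk_injective (A := B) (B := R) (D ⊗[B] D)
  apply hb.equiv.injective
  change hb.equiv (1 ⊗ₜ d) = hb.equiv (1 ⊗ₜ d')
  rw [IsBaseChange.equiv_tmul, IsBaseChange.equiv_tmul, one_smul, one_smul]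
  exact h

lemma exists_of_res (v : Γ → M →ₗ[B] M) (hs : ∀ γ (r : R) m, v γ (r • m) = g.σ γ r • v γ m)
    (e : R ⊗[B] D ≃ₐc[R] M) (he : ∀ γ d, v γ (e (1 ⊗ₜ d)) = e (1 ⊗ₜ d))
    (m : M) (hm : ∀ γ, v γ m = m) : ∃ d, e (1 ⊗ₜ d) = m :=
  g.exists_of_invariant (v := v) _ (isBaseChange_res e) hs (fun γ n => he γ n) _ hm

/-- Uniqueness of descent. -/
theorem exists_equiv (v : Γ → M →ₗ[B] M) (hs : ∀ γ (r : R) m, v γ (r • m) = g.σ γ r • v γ m)
    (e : R ⊗[B] D ≃ₐc[R] M) (he : ∀ γ d, v γ (e (1 ⊗ₜ d)) = e (1 ⊗ₜ d))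
    (e' : R ⊗[B] D' ≃ₐc[R] M) (he' : ∀ γ d, v γ (e' (1 ⊗ₜ d)) = e' (1 ⊗ₜ d)) :
    ∃ f : D ≃ₐc[B] D', ∀ d, e' (1 ⊗ₜ f d) = e (1 ⊗ₜ d) := by
  choose f hf using fun d => g.exists_of_res v hs e' he' (e (1 ⊗ₜ d)) (fun γ => he γ d)
  choose f' hf' using fun d => g.exists_of_res v hs e he (e' (1 ⊗ₜ d)) (fun γ => he' γ d)
  have inj := g.res_injective e
  have inj' := g.res_injective e'
  have i' : ∀ a b : D', e' (1 ⊗ₜ a) = e' (1 ⊗ₜ b) → a = b := fun a b h => inj' h
  have i : ∀ a b : D, e (1 ⊗ₜ a) = e (1 ⊗ₜ b) → a = b := fun a b h => inj h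
  have hadd : ∀ a b, e' (1 ⊗ₜ (a + b)) = e' (1 ⊗ₜ a) + e' (1 ⊗ₜ b) := fun a b => by
    rw [TensorProduct.tmul_add, map_add]
  have hadd₂ : ∀ a b, e (1 ⊗ₜ (a + b)) = e (1 ⊗ₜ a) + e (1 ⊗ₜ b) := fun a b => by
    rw [TensorProduct.tmul_add, map_add]
  have hmul : ∀ a b, e' (1 ⊗ₜ (a * b)) = e' (1 ⊗ₜ a) * e' (1 ⊗ₜ b) := fun a b => by
    rw [← map_mul, Algebra.TensorProduct.tmul_mul_tmul, one_mul]
  have hmul₂ : ∀ a b, e (1 ⊗ₜ (a * b)) = e (1 ⊗ₜ a) * e (1 ⊗ₜ b) := fun a b => by
    rw [← map_mul, Algebra.TensorProduct.tmul_mul_tmul, one_mul]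
  have halg : ∀ b : B, e' (1 ⊗ₜ algebraMap B D' b) = algebraMap R M (algebraMap B R b) := fun b => by
    rw [Algebra.algebraMap_eq_smul_one (R := B) (A := D'), ← TensorProduct.smul_tmul,
      ← Algebra.algebraMap_eq_smul_one]
    exact e'.toAlgEquiv.commutes _
  have halg₂ : ∀ b : B, e (1 ⊗ₜ algebraMap B D b) = algebraMap R M (algebraMap B R b) := fun b => by
    rw [Algebra.algebraMap_eq_smul_one (R := B) (A := D), ← TensorProduct.smul_tmul,
      ← Algebra.algebraMap_eq_smul_one]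
    exact e.toAlgEquiv.commutes _
  let F : D →ₐ[B] D' :=
    { toFun := f
      map_one' := i' _ _ (by
        rw [hf, ← Algebra.TensorProduct.one_def, ← Algebra.TensorProduct.one_def, map_one, map_one])
      map_mul' := fun a b => i' _ _ (by rw [hf, hmul, hf, hf, hmul₂])
      map_zero' := i' _ _ (by rw [hf, TensorProduct.tmul_zero, TensorProduct.tmul_zero, map_zero, map_zero])
      map_add' := fun a b => i' _ _ (by rw [hf, hadd, hf, hf, hadd₂])
      commutes' := fun b => i' _ _ (by rw [hf, halg, halg₂]) }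
  have hF : ∀ d, F d = f d := fun d => rfl
  have hbij : Function.Bijective F := by
    refine ⟨fun a b h => i _ _ ?_, fun d' => ⟨f' d', i' _ _ ?_⟩⟩
    · rw [← hf, ← hf]; exact congrArg _ (congrArg _ h)
    · rw [hF, hf, hf']
  let G : D →ₐc[B] D' := BialgHom.ofAlgHom F
    (by
      ext d
      apply g.algebraMap_injective
      change algebraMap B R (Coalgebra.counit (R := B) (f d)) = algebraMap B R (Coalgebra.counit (R := B) d)
      rw [← counit_res (e' : R ⊗[B] D' →ₐc[R] M), ← counit_res (e : R ⊗[B] D →ₐc[R] M)]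
      exact congrArg _ (hf d))
    (by
      ext d
      apply g.m2_injective e'
      change m2 R _ _ (Algebra.TensorProduct.map F F (Coalgebra.comul (R := B) d)) =
        m2 R _ _ (Coalgebra.comul (R := B) (f d))
      have h1 := comul_res (e' : R ⊗[B] D' →ₐc[R] M) (f d)
      have h2 := comul_res (e : R ⊗[B] D →ₐc[R] M) d
      have h3 : (e' : R ⊗[B] D' →ₐc[R] M) (1 ⊗ₜ f d) = (e : R ⊗[B] D →ₐc[R] M) (1 ⊗ₜ d) := hf d
      rw [← h1, h3, h2]
      generalize Coalgebra.comul (R := B) d = z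
      induction z using TensorProduct.induction_on with
      | zero => simp
      | tmul a c =>
        simp only [Algebra.TensorProduct.map_tmul, m2_tmul]
        congr 1
        · exact hf a
        · exact hf c
      | add x y hx hy => simp only [map_add, hx, hy])
  refine ⟨BialgEquiv.ofBijective G hbij, fun d => hf d⟩

end unique

section exist

variable {Γ B R : Type*} [Group Γ] [Fintype Γ] [CommRing B] [CommRing R] [Algebra B R]
  (g : GalData Γ B R)

/-- A semilinear action of `Γ` on an `R`-Hopf algebra. -/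
structure HopfAct (M : Type*) [CommRing M] [HopfAlgebra R M] [Algebra B M] [IsScalarTower B R M] where
  /-- the action -/
  v : Γ → M →ₐ[B] M
  v_one : ∀ m, v 1 m = m
  v_mul : ∀ γ δ m, v γ (v δ m) = v (γ * δ) m
  v_alg : ∀ γ (r : R), v γ (algebraMap R M r) = algebraMap R M (g.σ γ r)
  v_comul : ∀ γ m, Coalgebra.comul (R := R) (v γ m) =
    Algebra.TensorProduct.mapRingHom ((g.σ γ : R →ₐ[B] R) : R →+* R) (v γ : M →+* M) (v γ : M →+* M)
      (RingHom.ext fun r => v_alg γ r) (RingHom.ext fun r => v_alg γ r) (Coalgebra.comul (R := R) m)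
  v_counit : ∀ γ m, Coalgebra.counit (R := R) (v γ m) = g.σ γ (Coalgebra.counit (R := R) m)
  v_antipode : ∀ γ m, HopfAlgebra.antipode R (v γ m) = v γ (HopfAlgebra.antipode R m)

namespace HopfAct

variable {g} {M : Type u} [CommRing M] [HopfAlgebra R M] [Algebra B M] [IsScalarTower B R M]
  (a : HopfAct g M)

lemma v_smul (γ : Γ) (r : R) (m : M) : (a.v γ).toLinearMap (r • m) = g.σ γ r • (a.v γ).toLinearMap m := by
  rw [Algebra.smul_def, Algebra.smul_def]
  simp only [AlgHom.toLinearMap_apply, map_mul, a.v_alg]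

/-- invariant subalgebra -/
def invAlg : Subalgebra B M where
  __ := inv fun γ => (a.v γ).toLinearMap
  mul_mem' {x y} hx hy γ := by
    change a.v γ (x * y) = x * y
    rw [map_mul]
    exact congrArg₂ _ (hx γ) (hy γ)
  algebraMap_mem' b γ := (a.v γ).commutes b

/-- the semilinear maps on `M ⊗ M`. -/
noncomputable def v2 (γ : Γ) : M ⊗[R] M →ₗ[B] M ⊗[R] M where
  toFun := Algebra.TensorProduct.mapRingHom ((g.σ γ : R →ₐ[B] R) : R →+* R) (a.v γ : M →+* M)
    (a.v γ : M →+* M) (RingHom.ext fun r => a.v_alg γ r) (RingHom.ext fun r => a.v_alg γ r)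
  map_add' := map_add _
  map_smul' b x := by
    rw [Algebra.smul_def, map_mul, RingHom.id_apply, Algebra.smul_def]
    congr 1
    rw [Algebra.TensorProduct.algebraMap_apply, Algebra.TensorProduct.mapRingHom_tmul]
    simp

lemma v2_tmul (γ : Γ) (m n : M) : a.v2 γ (m ⊗ₜ n) = a.v γ m ⊗ₜ a.v γ n :=
  Algebra.TensorProduct.mapRingHom_tmul (HS := RingHom.ext fun r => a.v_alg γ r)
    (HT := RingHom.ext fun r => a.v_alg γ r) ..

lemma v2_smul (γ : Γ) (r : R) (z : M ⊗[R] M) : a.v2 γ (r • z) = g.σ γ r • a.v2 γ z := by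
  induction z using TensorProduct.induction_on with
  | zero => simp
  | tmul m n =>
    rw [TensorProduct.smul_tmul', v2_tmul, v2_tmul, TensorProduct.smul_tmul']
    congr 1
    exact a.v_smul γ r m
  | add x y hx hy => rw [smul_add, map_add, hx, hy, map_add, smul_add]

theorem exists_descent : ∃ (D : Type u) (_ : CommRing D) (_ : HopfAlgebra B D)
    (e : R ⊗[B] D ≃ₐc[R] M), ∀ γ d, a.v γ (e (1 ⊗ₜ d)) = e (1 ⊗ₜ d) := by
  have hff := g.faithfullyFlat
  have hbc : IsBaseChange R a.invAlg.val.toLinearMap :=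
    g.isBaseChange_inv (v := fun γ => (a.v γ).toLinearMap) a.v_one a.v_mul a.v_smul
  have hbc2 := isBaseChange_m2 hbc hbc
  have hfix : ∀ (x : a.invAlg) γ, a.v γ x = x := fun x => x.2
  have hff' : Module.FaithfullyFlat B (∀ _ : Unit, R) :=
    Module.FaithfullyFlat.of_linearEquiv _ _ (LinearEquiv.funUnique Unit B R)
  obtain ⟨D, i1, i2, φ, h⟩ := exists_hopfAlgebra (R := B) (ι := Unit) (S := fun _ => R)
    (B := fun _ => M) (fun _ => a.invAlg.val) (fun _ => hbc)
    (fun x => by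
      obtain ⟨z, hz⟩ := g.exists_of_invariant (v := fun γ => a.v2 γ) _ hbc2
        (fun γ r z => a.v2_smul γ r z)
        (fun γ z => by
          change a.v2 γ (m2 R _ _ z) = m2 R _ _ z
          induction z using TensorProduct.induction_on with
          | zero => simp
          | tmul m n =>
            rw [m2_tmul, v2_tmul]
            exact congrArg₂ _ (hfix m γ) (hfix n γ)
          | add x y hx hy => simp only [map_add, hx, hy])
        (Coalgebra.comul (R := R) (x : M))
        (fun γ => by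
          conv_rhs => rw [← hfix x γ, a.v_comul]
          rfl)
      exact ⟨z, fun _ => hz⟩)
    (fun x => by
      refine ⟨g.t (g.θ * Coalgebra.counit (R := R) (x : M)), fun _ => ?_⟩
      change algebraMap B R _ = Coalgebra.counit (R := R) (x : M)
      rw [g.ht]
      simp only [map_mul, ← a.v_counit, hfix, ← Finset.sum_mul]
      rw [g.sum_θ, one_mul])
    (fun x => by
      refine ⟨⟨HopfAlgebra.antipode R (x : M), fun γ => ?_⟩, fun _ => rfl⟩
      change a.v γ _ = _
      rw [← a.v_antipode, hfix])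
  obtain ⟨e, he⟩ := h ()
  exact ⟨D, i1, i2, e, fun γ d => by rw [he]; exact hfix _ _⟩

end HopfAct

end exist

end GalData

end Groth.Agent.Sga3B.Hens.GalDesc
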