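import Groth.Agent.Sga3B.Hens.GalDesc
import Groth.Agent.S0518
import Groth.Agent.S0519
import Mathlib.RingTheory.Trace.Basic
import Mathlib.RingTheory.Flat.LocallyFree
import Mathlib.RingTheory.Smooth.Flat
import Mathlib.RingTheory.Etale.Field
import Mathlib.FieldTheory.Galois.Basic
import Mathlib.FieldTheory.Fixed

/-!
# Lifting a finite Galois extension of the residue field of a henselian local ring
-/

set_option autoImplicit false

universe u

open TensorProduct

namespace Groth.Agent.Sga3B.Hens.GalLift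

open Groth.Agent.Sga3B.Hens.GalDesc

section

variable (A : Type u) [CommRing A] [HenselianLocalRing A] (K : Type u) [Field K]
  [Algebra (IsLocalRing.ResidueField A) K]

local notation "k" => IsLocalRing.ResidueField A

/-- Lifts of automorphisms. -/
theorem exists_lift (S : Type u) [CommRing S] [Algebra A S] [Module.Finite A S] [Algebra.Etale A S]
    (e : k ⊗[A] S ≃ₐ[k] K) (γ : K ≃ₐ[k] K) :
    ∃ φ : S →ₐ[A] S, ∀ a, e (1 ⊗ₜ φ a) = γ (e (1 ⊗ₜ a)) := by
  obtain ⟨φ, hφ⟩ := (Groth.Agent.S0519.result A S S).2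
    ((e.symm.toAlgHom.comp γ.toAlgHom).comp e.toAlgHom)
  refine ⟨φ, fun a => ?_⟩
  have h := DFunLike.congr_fun hφ (1 ⊗ₜ a)
  have h' : (1 : k) ⊗ₜ[A] φ a = e.symm (γ (e (1 ⊗ₜ a))) := h
  rw [h', AlgEquiv.apply_symm_apply]

theorem lift_ext (S : Type u) [CommRing S] [Algebra A S] [Module.Finite A S] [Algebra.Etale A S]
    (e : k ⊗[A] S ≃ₐ[k] K) (φ ψ : S →ₐ[A] S)
    (h : ∀ a, e (1 ⊗ₜ φ a) = e (1 ⊗ₜ ψ a)) : φ = ψ := by
  apply (Groth.Agent.S0519.result A S S).1
  refine Algebra.TensorProduct.ext' fun c a => ?_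
  have h1 : (1 : k) ⊗ₜ[A] φ a = 1 ⊗ₜ ψ a := e.injective (h a)
  have h2 : ∀ s : S, c ⊗ₜ[A] s = c • ((1 : k) ⊗ₜ[A] s) := fun s => by
    rw [TensorProduct.smul_tmul', smul_eq_mul, mul_one]
  show c ⊗ₜ[A] φ a = c ⊗ₜ[A] ψ a
  rw [h2, h2, h1]


theorem residue_eq_zero_iff' (a : A) : algebraMap A k a = 0 ↔ a ∈ IsLocalRing.maximalIdeal A :=
  IsLocalRing.residue_eq_zero_iff a

/-- An element of a finite algebra which is a unit modulo the maximal ideal is a unit. -/
theorem isUnit_of_ne_zero (S : Type u) [CommRing S] [Algebra A S] [Module.Finite A S]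
    (e : k ⊗[A] S ≃ₐ[k] K) (s : S) (hs : e (1 ⊗ₜ s) ≠ 0) : IsUnit s := by
  have h1 : LinearMap.range (LinearMap.mulLeft A s) = ⊤ := by
    rw [← IsLocalRing.map_tensorProduct_mk_eq_top, eq_top_iff]
    intro z _
    have h2 : (1 : k) ⊗ₜ[A] s * e.symm ((e (1 ⊗ₜ s))⁻¹ * e z) = z := by
      apply e.injective
      rw [map_mul, AlgEquiv.apply_symm_apply, ← mul_assoc, mul_inv_cancel₀ hs, one_mul]
    have h3 : ∀ w : k ⊗[A] S, ∃ s' : S, w = 1 ⊗ₜ s' := by
      intro w
      induction w using TensorProduct.induction_on with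
      | zero => exact ⟨0, by simp⟩
      | add x y hx hy =>
        obtain ⟨a, rfl⟩ := hx
        obtain ⟨b, rfl⟩ := hy
        exact ⟨a + b, by rw [TensorProduct.tmul_add]⟩
      | tmul x y =>
        obtain ⟨a, rfl⟩ := IsLocalRing.residue_surjective x
        refine ⟨a • y, ?_⟩
        rw [← TensorProduct.smul_tmul, Algebra.smul_def, mul_one]
        rfl
    obtain ⟨s', hs'⟩ := h3 (e.symm ((e (1 ⊗ₜ s))⁻¹ * e z))
    rw [hs', Algebra.TensorProduct.tmul_mul_tmul, one_mul] at h2
    exact ⟨s * s', ⟨s', rfl⟩, h2⟩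
  obtain ⟨s', hs'⟩ : (1 : S) ∈ LinearMap.range (LinearMap.mulLeft A s) := h1 ▸ trivial
  exact IsUnit.of_mul_eq_one s' hs'

end

/-- Determinant of automorphisms on a basis is nonzero. -/
theorem det_ne_zero (F L : Type u) [Field F] [Field L] [Algebra F L] [FiniteDimensional F L]
    [Fintype (L ≃ₐ[F] L)] [DecidableEq (L ≃ₐ[F] L)]
    (y : Module.Basis (L ≃ₐ[F] L) F L) :
    (Matrix.of fun γ j : L ≃ₐ[F] L => γ (y j)).det ≠ 0 := by
  intro h
  obtain ⟨v, hv0, hv⟩ := Matrix.exists_vecMul_eq_zero_iff.mpr h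
  apply hv0
  have hli : LinearIndependent L (fun γ : L ≃ₐ[F] L => (γ.toAlgHom.toLinearMap : L →ₗ[F] L)) := by
    have h1 := linearIndependent_toLinearMap F L L
    exact h1.comp (fun γ : L ≃ₐ[F] L => γ.toAlgHom) (fun a b hab => by
      ext x
      exact DFunLike.congr_fun hab x)
  rw [Fintype.linearIndependent_iff] at hli
  funext γ
  refine hli v ?_ γ
  refine y.ext fun j => ?_
  have := congrFun hv j
  simp only [Matrix.vecMul, dotProduct, Matrix.of_apply, Pi.zero_apply] at this
  simp only [LinearMap.sum_apply, LinearMap.smul_apply, LinearMap.zero_apply, smul_eq_mul]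
  exact this

open IsLocalRing in
/-- A finite Galois extension of the residue field of a henselian local ring lifts, with its group. -/
theorem exists_galData (A : Type u) [CommRing A] [HenselianLocalRing A] (K : Type u) [Field K]
    [Algebra (IsLocalRing.ResidueField A) K] [FiniteDimensional (IsLocalRing.ResidueField A) K]
    [IsGalois (IsLocalRing.ResidueField A) K] [Fintype (K ≃ₐ[IsLocalRing.ResidueField A] K)] :
    ∃ (A' : Type u) (_ : CommRing A') (_ : Algebra A A') (_ : Module.Finite A A')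
      (_ : Module.Free A A') (g : GalData (K ≃ₐ[IsLocalRing.ResidueField A] K) A A')
      (e : IsLocalRing.ResidueField A ⊗[A] A' ≃ₐ[IsLocalRing.ResidueField A] K),
      ∀ γ a, e (1 ⊗ₜ g.σ γ a) = γ (e (1 ⊗ₜ a)) := by
  classical
  let k := ResidueField A
  have hfe : Algebra.FormallyEtale (ResidueField A) K := Algebra.FormallyEtale.of_isSeparable _ _
  have hfp : Algebra.FinitePresentation (ResidueField A) K := Algebra.FinitePresentation.of_finiteType.mp
    inferInstance
  have het : Algebra.Etale (ResidueField A) K := ⟨hfe, hfp⟩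
  obtain ⟨S, _, _, hfin, hSet, ⟨e⟩⟩ := Groth.Agent.S0518.result A K
  have hflat : Module.Flat A S := Algebra.Smooth.flat A S
  have hfree : Module.Free A S := Module.free_of_flat_of_isLocalRing
  choose φ hφ using exists_lift A K S e
  have hφ1 : φ 1 = AlgHom.id A S := lift_ext A K S e _ _ fun a => by rw [hφ]; rfl
  have hφmul : ∀ γ δ, φ (γ * δ) = (φ γ).comp (φ δ) := fun γ δ => lift_ext A K S e _ _ fun a => by
    rw [hφ, AlgHom.comp_apply, hφ, hφ]; rfl
  let σ : (K ≃ₐ[ResidueField A] K) →* (S ≃ₐ[A] S) :=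
    { toFun := fun γ => AlgEquiv.ofAlgHom (φ γ) (φ γ⁻¹)
        (by rw [← hφmul, mul_inv_cancel, hφ1]) (by rw [← hφmul, inv_mul_cancel, hφ1])
      map_one' := by
        ext a
        exact DFunLike.congr_fun hφ1 a
      map_mul' := fun γ δ => by
        ext a
        exact DFunLike.congr_fun (hφmul γ δ) a }
  have hσ : ∀ γ a, σ γ a = φ γ a := fun _ _ => rfl
  have hσe : ∀ γ a, e (1 ⊗ₜ σ γ a) = γ (e (1 ⊗ₜ a)) := fun γ a => hφ γ a
  -- a basis indexed by the Galois group
  have hcard : Module.finrank A S = Fintype.card (K ≃ₐ[ResidueField A] K) := by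
    rw [← Nat.card_eq_fintype_card, IsGalois.card_aut_eq_finrank, ← e.toLinearEquiv.finrank_eq,
      Module.finrank_baseChange]
  let y : Module.Basis (K ≃ₐ[ResidueField A] K) A S :=
    (Module.finBasisOfFinrankEq A S hcard).reindex (Fintype.equivFin _).symm
  let ybar : Module.Basis (K ≃ₐ[ResidueField A] K) (ResidueField A) K :=
    (Algebra.TensorProduct.basis (ResidueField A) y).map e.toLinearEquiv
  have hybar : ∀ j, ybar j = e (1 ⊗ₜ y j) := fun j => by
    simp only [ybar, Module.Basis.map_apply, Algebra.TensorProduct.basis_apply]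
    rfl
  let M : Matrix (K ≃ₐ[ResidueField A] K) (K ≃ₐ[ResidueField A] K) S := Matrix.of fun γ j => σ γ (y j)
  have hM : IsUnit M.det := by
    apply isUnit_of_ne_zero A K S e
    let E : S →+* K := e.toAlgHom.toRingHom.comp
      (Algebra.TensorProduct.includeRight : S →ₐ[A] k ⊗[A] S).toRingHom
    have h1 : e (1 ⊗ₜ M.det) = E M.det := rfl
    rw [h1, RingHom.map_det]
    have h2 : E.mapMatrix M = Matrix.of fun γ j : K ≃ₐ[ResidueField A] K => γ (ybar j) := by
      ext γ j
      simp only [RingHom.mapMatrix_apply, Matrix.map_apply, Matrix.of_apply, M, hybar]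
      exact hσe γ (y j)
    rw [h2]
    exact det_ne_zero _ _ ybar
  have hMM : M * M⁻¹ = 1 := Matrix.mul_nonsing_inv M hM
  have hMM' : M⁻¹ * M = 1 := Matrix.nonsing_inv_mul M hM
  have hxy : ∀ γ, ∑ j, (M⁻¹) j 1 * σ γ (y j) = if γ = 1 then 1 else 0 := by
    intro γ
    have := congrFun (congrFun hMM γ) 1
    rw [Matrix.mul_apply, Matrix.one_apply] at this
    rw [← this]
    exact Finset.sum_congr rfl fun j _ => mul_comm _ _
  have htr : ∀ r, algebraMap A S (Algebra.trace A S r) = ∑ γ, σ γ r := by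
    intro r
    rw [Algebra.trace_eq_matrix_trace y r, Matrix.trace, map_sum]
    let C : Matrix (K ≃ₐ[ResidueField A] K) (K ≃ₐ[ResidueField A] K) S :=
      (Algebra.leftMulMatrix y r).map (algebraMap A S)
    have h1 : M * C = Matrix.diagonal (fun γ => σ γ r) * M := by
      ext γ j
      rw [Matrix.mul_apply, Matrix.diagonal_mul]
      have h2 : ∑ i, (Algebra.leftMulMatrix y r i j) • y i = r * y j := by
        have := y.sum_repr (r * y j)
        rw [← this]
        refine Finset.sum_congr rfl fun i _ => ?_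
        rw [Algebra.leftMulMatrix_eq_repr_mul]
      show ∑ i, σ γ (y i) * algebraMap A S (Algebra.leftMulMatrix y r i j) = σ γ r * σ γ (y j)
      rw [← map_mul, ← h2, map_sum]
      refine Finset.sum_congr rfl fun i _ => ?_
      rw [map_smul, Algebra.smul_def, mul_comm]
    have h3 : C = M⁻¹ * (Matrix.diagonal (fun γ => σ γ r) * M) := by
      rw [← h1, ← mul_assoc, hMM', one_mul]
    have h4 : Matrix.trace C = ∑ γ, σ γ r := by
      rw [h3, Matrix.trace_mul_comm, mul_assoc, hMM, mul_one, Matrix.trace_diagonal]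
    exact h4
  -- an element of trace one
  have hθ : ∃ θ : S, Algebra.trace A S θ = 1 := by
    by_contra hcon
    have hmem : ∀ s, Algebra.trace A S s ∈ maximalIdeal A := by
      intro s
      by_contra hs
      have hu : IsUnit (Algebra.trace A S s) := by
        rwa [mem_maximalIdeal, mem_nonunits_iff, not_not] at hs
      obtain ⟨v, hv⟩ := hu.exists_left_inv
      exact hcon ⟨v • s, by rw [map_smul, smul_eq_mul, hv]⟩
    have h1 : ∑ j, (M⁻¹) j 1 * algebraMap A S (Algebra.trace A S (y j)) = 1 := by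
      simp only [htr, Finset.mul_sum]
      rw [Finset.sum_comm]
      simp only [hxy]
      simp
    have h2 : e (1 ⊗ₜ (1 : S)) = 0 := by
      rw [← h1]
      have h3 : ∀ j, (1 : ResidueField A) ⊗ₜ[A] ((M⁻¹) j 1 * algebraMap A S (Algebra.trace A S (y j))) = 0 := by
        intro j
        rw [mul_comm, ← Algebra.smul_def, ← TensorProduct.smul_tmul, Algebra.smul_def, mul_one]
        have : algebraMap A (ResidueField A) (Algebra.trace A S (y j)) = 0 :=
          (residue_eq_zero_iff _).mpr (hmem _)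
        rw [this, TensorProduct.zero_tmul]
      rw [TensorProduct.tmul_sum]
      simp only [h3, Finset.sum_const_zero, map_zero]
    have h3 : e (1 ⊗ₜ (1 : S)) = 1 := map_one e
    exact one_ne_zero (h3.symm.trans h2)
  obtain ⟨θ, hθ⟩ := hθ
  let eq : Fin (Fintype.card (K ≃ₐ[ResidueField A] K)) ≃ (K ≃ₐ[ResidueField A] K) :=
    (Fintype.equivFin _).symm
  refine ⟨S, inferInstance, inferInstance, hfin, hfree,
    { σ := σ
      t := Algebra.trace A S
      ht := htr
      θ := θ
      hθ := hθ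
      m := Fintype.card (K ≃ₐ[ResidueField A] K)
      x := fun i => (M⁻¹) (eq i) 1
      y := fun i => y (eq i)
      hxy1 := ?_
      hxy := ?_ }, e, hσe⟩
  · have := hxy 1
    rw [if_pos rfl, map_one] at this
    rw [eq.sum_comp (fun j => (M⁻¹) j 1 * y j)]
    exact this
  · intro γ hγ
    have := hxy γ
    rw [if_neg hγ] at this
    rw [eq.sum_comp (fun j => (M⁻¹) j 1 * σ γ (y j))]
    exact this

end Groth.Agent.Sga3B.Hens.GalLift
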