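import Groth.Prelude.Def_Red2
import Groth.Agent.Sga3B.BcIso
import Groth.Agent.Sga3B.ResAlg
import Mathlib.AlgebraicGeometry.Morphisms.QuasiFinite
import Mathlib.FieldTheory.SeparableClosure
import Mathlib.FieldTheory.IsSepClosed
import Mathlib.FieldTheory.Galois.Basic
import Mathlib.RingTheory.Unramified.LocalStructure

/-!
# A reductive group over a field is split by a finite Galois extension

`exists_split_galois_of`: relative to three inputs (étale-local splitting with reduced root datum, base change of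
splittings, the uniqueness theorem), `G₀` over a field `k` becomes isomorphic over a finite Galois extension `K` to the
base change of a reductive `ℤ`-group.
-/

set_option autoImplicit false
open CategoryTheory AlgebraicGeometry
universe u

namespace Groth.Agent.Sga3B.Hens.SplitGalOf

open Groth.Agent.Sga3B Groth.Agent.Sga3B.ResAlg

/-- a finite separable extension is contained in a finite Galois extension -/
theorem exists_galois_ext (k L : Type u) [Field k] [Field L] [Algebra k L] [FiniteDimensional k L]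
    [Algebra.IsSeparable k L] :
    ∃ (K : Type u) (_ : Field K) (_ : Algebra k K) (_ : Algebra L K), IsScalarTower k L K ∧
      FiniteDimensional k K ∧ IsGalois k K := by
  let Ω := SeparableClosure L
  have : Algebra.IsSeparable k Ω := Algebra.IsSeparable.trans k L Ω
  have : IsSepClosure k Ω := ⟨inferInstance, inferInstance⟩
  have : IsGalois k Ω := inferInstance
  exact ⟨IntermediateField.normalClosure k L Ω, inferInstance, inferInstance, inferInstance, inferInstance, inferInstance, inferInstance⟩

theorem locallyQuasiFinite_of_etale {X Y : Scheme.{u}} (f : X ⟶ Y) [Etale f] : LocallyQuasiFinite f := by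
  rw [HasRingHomProperty.iff_appLE (P := @LocallyQuasiFinite)]
  intro U V e
  have h := HasRingHomProperty.appLE (P := @Etale) f inferInstance U V e
  algebraize [(Scheme.Hom.appLE f U V e).hom]
  have : Algebra.Etale Γ(Y, U) Γ(X, V) := h
  change Algebra.QuasiFinite _ _
  infer_instance

/-- The residue field of a point of an étale scheme over a field. -/
theorem exists_point (k : Type u) [Field k] {U : Scheme.{u}} (f : U ⟶ Spec (CommRingCat.of k)) [Etale f] (u : U) :
    ∃ (L : Type u) (_ : Field L) (_ : Algebra k L) (x : Spec (CommRingCat.of L) ⟶ U), FiniteDimensional k L ∧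
      Algebra.IsSeparable k L ∧ x ≫ f = Spec.map (CommRingCat.ofHom (algebraMap k L)) := by
  let φ₀ := (Scheme.ΓSpecIso (CommRingCat.of k)).inv ≫
      (Spec (CommRingCat.of k)).presheaf.germ ⊤ (f u) trivial ≫ (Spec (CommRingCat.of k)).residue (f u)
  have h1 : Function.Surjective φ₀.hom := surjective_toResidueField k (f u)
  have h2 : Function.Injective φ₀.hom := φ₀.hom.injective
  have h7 : Spec.map φ₀ = (Spec (CommRingCat.of k)).fromSpecResidueField (f u) := by
    have e1 := Scheme.Spec.map_residueFieldIso_inv_eq_fromSpecResidueField (CommRingCat.of k) (f u)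
    rw [← Spec.map_comp, Scheme.Spec.algebraMap_residueFieldIso_inv] at e1
    exact e1
  let k₁ := (Spec (CommRingCat.of k)).residueField (f u)
  let L := U.residueField u
  have hqf := locallyQuasiFinite_of_etale f
  have hfin : (f.residueFieldMap u).hom.Finite := by
    have h1 : (f.stalkMap u).hom.QuasiFinite := f.quasiFiniteAt u
    have h2 : (U.residue u).hom.QuasiFinite :=
      RingHom.QuasiFinite.of_finite (RingHom.Finite.of_surjective _ (U.residue_surjective _))
    have h3 := h2.comp h1
    rw [← CommRingCat.hom_comp, ← Scheme.residue_residueFieldMap, CommRingCat.hom_comp] at h3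
    have h4 : (f.residueFieldMap u).hom.QuasiFinite := RingHom.QuasiFinite.of_comp h3
    let i : Algebra k₁ L := (f.residueFieldMap u).hom.toAlgebra
    have : Algebra.QuasiFinite k₁ L := h4
    exact (Module.Finite.of_quasiFinite : Module.Finite k₁ L)
  have hsep : @Algebra.IsSeparable k₁ L _ _ (f.residueFieldMap u).hom.toAlgebra := by
    let : Algebra k₁ L := (f.residueFieldMap u).hom.toAlgebra
    exact inferInstance
  let φ := φ₀ ≫ f.residueFieldMap u
  let iL : Algebra k L := φ.hom.toAlgebra
  refine ⟨L, inferInstance, iL, U.fromSpecResidueField u, ?_, ?_, ?_⟩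
  · have : φ.hom.Finite := by
      change ((f.residueFieldMap u).hom.comp φ₀.hom).Finite
      exact hfin.comp (RingHom.Finite.of_surjective _ h1)
    exact this
  · let : Algebra k₁ L := (f.residueFieldMap u).hom.toAlgebra
    have := hsep
    refine Algebra.IsSeparable.of_equiv_equiv (A₁ := k₁) (B₁ := L) (RingEquiv.ofBijective φ₀.hom ⟨h2, h1⟩).symm
      (RingEquiv.refl L) ?_
    ext a
    obtain ⟨b, rfl⟩ := h1 a
    simp only [RingHom.comp_apply]
    have e : (RingEquiv.ofBijective φ₀.hom ⟨h2, h1⟩).symm (φ₀.hom b) = b :=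
      (RingEquiv.ofBijective φ₀.hom ⟨h2, h1⟩).symm_apply_apply b
    change φ.hom ((RingEquiv.ofBijective φ₀.hom ⟨h2, h1⟩).symm (φ₀.hom b)) = (f.residueFieldMap u).hom (φ₀.hom b)
    rw [e]
    rfl
  · rw [← Scheme.Hom.SpecMap_residueFieldMap_fromSpecResidueField, ← h7, ← Spec.map_comp]
    rfl

/-- `G₀` is a form of a Chevalley group over a finite Galois extension, relative to the inputs: étale-local
splitting (with reduced root datum), base change of splittings, and the uniqueness theorem S3005. -/
theorem exists_split_galois_of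
    (h3005 : ∀ (S : Scheme.{u}) {ι' M' N' : Type} [AddCommGroup M'] [Module ℤ M'] [AddCommGroup N'] [Module ℤ N']
      (Q : RootPairing ι' ℤ M' N') (G G' : Over S) [GrpObj G] [GrpObj G'], Red.IsSplitOfType Q G →
        Red.IsSplitOfType Q G' → Nonempty (Grp.mk G ≅ Grp.mk G'))
    (hbc : ∀ {S S' : Scheme.{u}} (f : S' ⟶ S) {ι' M' N' : Type} [AddCommGroup M'] [Module ℤ M'] [AddCommGroup N']
      [Module ℤ N'] (Q : RootPairing ι' ℤ M' N') (G : Over S) [GrpObj G], Red.IsSplitOfType Q G →
        Red.IsSplitOfType Q (Red.bc f G))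
    (hExist : ∀ {idx M N : Type} [Finite idx] [AddCommGroup M] [Module ℤ M] [AddCommGroup N] [Module ℤ N]
      [Module.Finite ℤ M] [Module.Free ℤ M] (R : RootPairing idx ℤ M N), R.IsReduced →
        ∃ (G : Over (Spec (CommRingCat.of (ULift.{u} ℤ)))) (_ : GrpObj G), Red.IsReductive G ∧ Red.IsSplitOfType R G)
    (k : Type u) [Field k] (G₀ : Over (Spec (CommRingCat.of k))) [GrpObj G₀]
    (hsplit : ∃ (U : Scheme.{u}) (f : U ⟶ Spec (CommRingCat.of k)) (_ : Etale f), Nonempty U ∧
      ∃ D : Red.SplitRed (Red.bc f G₀), D.P.IsReduced) :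
    ∃ (H : Over (Spec (CommRingCat.of (ULift.{u} ℤ)))) (_ : GrpObj H), Red.IsReductive H ∧
      ∃ (K : Type u) (_ : Field K) (_ : Algebra k K), FiniteDimensional k K ∧ IsGalois k K ∧
        Nonempty (Grp.mk (Red.bc (Spec.map (CommRingCat.ofHom (algebraMap k K))) G₀) ≅
          Grp.mk (Red.bc (Limits.IsTerminal.from specULiftZIsTerminal (Spec (CommRingCat.of K))) H)) := by
  obtain ⟨U, f, hf, ⟨u⟩, D, hD⟩ := hsplit
  obtain ⟨H, gH, hH, hHs⟩ := hExist D.P hD
  obtain ⟨L, fL, aL, x, hfd, hsep, hx⟩ := exists_point k f u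
  obtain ⟨K, fK, aK, aLK, htower, hfdK, hgal⟩ := exists_galois_ext k L
  refine ⟨H, gH, hH, K, fK, aK, hfdK, hgal, ?_⟩
  -- over `L`
  have e1 : Red.IsSplitOfType D.P (Red.bc x (Red.bc f G₀)) := hbc x D.P _ ⟨D, ⟨RootPairing.Equiv.id _⟩⟩
  have e2 : Red.IsSplitOfType D.P (Red.bc (Limits.IsTerminal.from specULiftZIsTerminal (Spec (CommRingCat.of L))) H) :=
    hbc _ D.P _ hHs
  obtain ⟨e⟩ := h3005 _ D.P _ _ e1 e2
  -- over `K`
  let y : Spec (CommRingCat.of K) ⟶ Spec (CommRingCat.of L) := Spec.map (CommRingCat.ofHom (algebraMap L K))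
  have hy : y ≫ x ≫ f = Spec.map (CommRingCat.ofHom (algebraMap k K)) := by
    rw [hx, ← Spec.map_comp, ← CommRingCat.ofHom_comp, ← IsScalarTower.algebraMap_eq]
  have hz : y ≫ Limits.IsTerminal.from specULiftZIsTerminal (Spec (CommRingCat.of L)) =
      Limits.IsTerminal.from specULiftZIsTerminal (Spec (CommRingCat.of K)) :=
    specULiftZIsTerminal.hom_ext _ _
  exact ⟨BcIso.bcCongrIso hy.symm G₀ ≪≫ BcIso.bcCompIso y (x ≫ f) G₀ ≪≫
    BcIso.bcMapIso y (BcIso.bcCompIso x f G₀ ≪≫ e) ≪≫ (BcIso.bcCompIso y _ H).symm ≪≫ BcIso.bcCongrIso hz H⟩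

end Groth.Agent.Sga3B.Hens.SplitGalOf
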